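import Groth.Agent.ASBun.K792.SecBC
import Groth.Agent.CurvesC.LinMod
import Groth.Agent.CohqB.HomSheafCoh

/-!
# Base change of Homs of modules along a free extension of the base

`X` over `Spec A`, `X'` over `Spec B`, `sq : IsPullback π (X' ↘ Spec B) (X ↘ Spec A) (Spec A → B)`.
* `mapL π sq M N : (M ⟶ N) →ₗ[A] (π^* M ⟶ π^* N)`, `φ ↦ π^* φ`;
* `isBaseChange_mapL`: if `B` is a free `A`-module, `X` is quasi-compact, `M` is quasi-coherent of finite
  type and `N` is quasi-coherent, then `mapL` is the base change along `A → B`.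
The linear structures are `Groth.Agent.CurvesC.LinMod.linearModules` (local instances).
-/

set_option autoImplicit false
set_option backward.isDefEq.respectTransparency false
universe u v
open CategoryTheory CategoryTheory.Limits AlgebraicGeometry Opposite TopologicalSpace
open scoped TensorProduct

namespace K792.HomBC

open Groth.Agent K792.SecBC CohqB.HomSheaf

section alg

variable {A B : Type*} [CommRing A] [CommRing B] [Algebra A B] {M N : Type*} [AddCommGroup M] [AddCommGroup N]
  [Module A M] [Module A N] [Module B N] [IsScalarTower A B N] {ι : Type*} (b : Module.Basis ι A B)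

/-- Base change to a free algebra in terms of a basis. -/
lemma isBaseChange_iff (f : M →ₗ[A] N) :
    IsBaseChange B f ↔ Function.Bijective (fun m : ι →₀ M => m.sum fun i x => b i • f x) := by
  classical
  let e := (TensorProduct.equivFinsuppOfBasisLeft (N := M) b).symm
  have h : (fun m : ι →₀ M => m.sum fun i x => b i • f x) =
      (TensorProduct.lift (((Algebra.linearMap B <| Module.End B (M →ₗ[A] N)).flip f).restrictScalars A)) ∘ e := by
    funext m
    change _ = TensorProduct.lift _ ((TensorProduct.equivFinsuppOfBasisLeft (N := M) b).symm m)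
    rw [TensorProduct.equivFinsuppOfBasisLeft_symm_apply, map_finsuppSum]
    rfl
  rw [h]
  exact (Function.Bijective.of_comp_iff _ e.bijective).symm

end alg

attribute [local instance] Groth.Agent.CurvesC.LinMod.linearModules

section one

variable (A : Type u) [CommRing A] {X : Scheme.{u}} [X.Over (Spec (CommRingCat.of A))]

theorem smul_app {M N : X.Modules} (a : A) (φ : M ⟶ N) (U : X.Opens) (m : Γ(M, U)) :
    (a • φ).app U m = sc A X U a • φ.app U m := rfl

theorem add_app {M N : X.Modules} (φ ψ : M ⟶ N) (U : X.Opens) (m : Γ(M, U)) :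
    (φ + ψ).app U m = φ.app U m + ψ.app U m := rfl

theorem sum_app {M N : X.Modules} {ι : Type*} (J : Finset ι) (φ : ι → (M ⟶ N)) (U : X.Opens) (m : Γ(M, U)) :
    (∑ i ∈ J, φ i).app U m = ∑ i ∈ J, (φ i).app U m := by
  classical
  induction J using Finset.induction_on with
  | empty => simp
  | insert i J hi ih => rw [Finset.sum_insert hi, Finset.sum_insert hi, add_app, ih]

/-- A morphism of quasi-coherent modules vanishing on the sections over the members of an affine cover is
zero. -/
theorem eq_zero_of_cover {M N : X.Modules} (hM : Coh.IsQCoh M) (φ : M ⟶ N) {κ : Type*} (U : κ → X.Opens)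
    (hU : ⨆ i, U i = ⊤) (hUa : ∀ i, IsAffineOpen (U i)) (h : ∀ i (m : Γ(M, U i)), φ.app (U i) m = 0) : φ = 0 := by
  apply (topEquiv M N).symm.injective
  rw [map_zero]
  apply eq_of_locally (homSheaf M N) U ⊤ hU.ge (fun _ => le_top)
  intro i
  rw [map_zero]
  apply comp_injective hM (hUa i)
  intro m
  exact h i m

end one

variable {A B : Type u} [CommRing A] [CommRing B] [Algebra A B] {X X' : Scheme.{u}}
  [X.Over (Spec (CommRingCat.of A))] [X'.Over (Spec (CommRingCat.of B))] (π : X' ⟶ X)
  (sq : IsPullback π (X' ↘ Spec (CommRingCat.of B)) (X ↘ Spec (CommRingCat.of A))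
    (Spec.map (CommRingCat.ofHom (algebraMap A B))))

include sq in
/-- The pullback functor is semilinear. -/
theorem map_smul {M N : X.Modules} (a : A) (φ : M ⟶ N) :
    (Scheme.Modules.pullback π).map (a • φ) = algebraMap A B a • (Scheme.Modules.pullback π).map φ := by
  apply pull_hom_ext
  intro U hU s
  rw [map_ps, smul_app, smul_app, ps_smul, map_ps, Scheme.Hom.app_eq_appLE, appLE_sc π sq]

/-- `Hom(M', N')` over `A`. -/
noncomputable abbrev homModA (M N : X'.Modules) : Module A (M ⟶ N) := Module.compHom _ (algebraMap A B)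

lemma isScalarTower_hom (M N : X'.Modules) :
    letI : Module A (M ⟶ N) := homModA (B := B) M N
    IsScalarTower A B (M ⟶ N) :=
  letI : Module A (M ⟶ N) := homModA (B := B) M N
  ⟨fun a b c => by rw [Algebra.smul_def, mul_smul]; rfl⟩

/-- Pullback of morphisms, as a linear map. -/
noncomputable def mapL (M N : X.Modules) :
    letI : Module A ((Scheme.Modules.pullback π).obj M ⟶ (Scheme.Modules.pullback π).obj N) :=
      homModA (B := B) _ _
    (M ⟶ N) →ₗ[A] ((Scheme.Modules.pullback π).obj M ⟶ (Scheme.Modules.pullback π).obj N) :=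
  letI : Module A ((Scheme.Modules.pullback π).obj M ⟶ (Scheme.Modules.pullback π).obj N) :=
      homModA (B := B) _ _
  { toFun := fun φ => (Scheme.Modules.pullback π).map φ
    map_add' := fun _ _ => (Scheme.Modules.pullback π).map_add
    map_smul' := fun a φ => map_smul π sq a φ }

section Coord

variable {ι : Type v} (b : Module.Basis ι A B) (N : X.Modules) (hN : Coh.IsQCoh N)

/-- The sum `∑ b_i • π^* n_i`. -/
noncomputable def eU (U : X.Opens) : (ι →₀ Γ(N, U)) →+ Γ((Scheme.Modules.pullback π).obj N, π ⁻¹ᵁ U) where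
  toFun n := n.sum fun i x => sc B X' (π ⁻¹ᵁ U) (b i) • ps π N U x
  map_zero' := Finsupp.sum_zero_index
  map_add' n n' := by
    refine Finsupp.sum_add_index' (fun i => ?_) (fun i x y => ?_)
    · rw [map_zero, smul_zero]
    · rw [map_add, smul_add]

omit [X.Over (Spec (CommRingCat.of A))] in
lemma eU_single (U : X.Opens) (i : ι) (x : Γ(N, U)) :
    eU π b N U (Finsupp.single i x) = sc B X' (π ⁻¹ᵁ U) (b i) • ps π N U x := by
  change (Finsupp.single i x).sum (fun i x => sc B X' (π ⁻¹ᵁ U) (b i) • ps π N U x) = _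
  rw [Finsupp.sum_single_index]
  rw [map_zero, smul_zero]

include sq hN in
lemma eU_bijective {U : X.Opens} (hU : IsAffineOpen U) : Function.Bijective (eU π b N U) := by
  let i1 : Module A (SecM B ((Scheme.Modules.pullback π).obj N) (π ⁻¹ᵁ U)) := modA _ _
  have i2 := isScalarTower_modA (A := A) (B := B) ((Scheme.Modules.pullback π).obj N) (π ⁻¹ᵁ U)
  exact (isBaseChange_iff b (psL π sq N U)).1 (isBaseChange_psL π sq N hN hU)

lemma eU_res {U V : X.Opens} (h : V ≤ U) (n : ι →₀ Γ(N, U)) :
    ((Scheme.Modules.pullback π).obj N).presheaf.map (homOfLE (π.preimage_mono h)).op (eU π b N U n) =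
      eU π b N V (n.mapRange (N.presheaf.map (homOfLE h).op) (map_zero _)) := by
  induction n using Finsupp.induction_linear with
  | zero => simp
  | add n n' h1 h2 =>
    rw [map_add, map_add, h1, h2, Finsupp.mapRange_add (fun x y => map_add _ x y), map_add]
  | single i x =>
    rw [Finsupp.mapRange_single, eU_single, eU_single, ← ps_res π N h x, ← sc_res B (π.preimage_mono h)]
    exact Scheme.Modules.map_smul _ _ _ _

lemma eU_smul (U : X.Opens) (a : Γ(X, U)) (n : ι →₀ Γ(N, U)) :
    eU π b N U (a • n) = π.app U a • eU π b N U n := by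
  induction n using Finsupp.induction_linear with
  | zero => simp
  | add n n' h1 h2 => rw [smul_add, map_add, map_add, h1, h2, smul_add]
  | single i x =>
    rw [Finsupp.smul_single, eU_single, eU_single, ps_smul, smul_smul, smul_smul, mul_comm]

/-- The coordinates of a section of the pullback. -/
noncomputable def cU {U : X.Opens} (hU : IsAffineOpen U) (i : ι) :
    Γ((Scheme.Modules.pullback π).obj N, π ⁻¹ᵁ U) →+ Γ(N, U) :=
  (Finsupp.applyAddHom i).comp
    (AddEquiv.ofBijective (eU π b N U) (eU_bijective π sq b N hN hU)).symm.toAddMonoidHom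

lemma exists_eq_eU {U : X.Opens} (hU : IsAffineOpen U) (t : Γ((Scheme.Modules.pullback π).obj N, π ⁻¹ᵁ U)) :
    ∃ n : ι →₀ Γ(N, U), t = eU π b N U n ∧ ∀ i, cU π sq b N hN hU i t = n i := by
  obtain ⟨n, rfl⟩ := (eU_bijective π sq b N hN hU).2 t
  refine ⟨n, rfl, fun i => ?_⟩
  change ((AddEquiv.ofBijective (eU π b N U) (eU_bijective π sq b N hN hU)).symm
    ((AddEquiv.ofBijective (eU π b N U) (eU_bijective π sq b N hN hU)) n)) i = n i
  rw [AddEquiv.symm_apply_apply]

lemma cU_eU {U : X.Opens} (hU : IsAffineOpen U) (n : ι →₀ Γ(N, U)) (i : ι) :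
    cU π sq b N hN hU i (eU π b N U n) = n i := by
  obtain ⟨n', h1, h2⟩ := exists_eq_eU π sq b N hN hU (eU π b N U n)
  rw [h2, (eU_bijective π sq b N hN hU).1 h1]

lemma cU_res {U V : X.Opens} (hU : IsAffineOpen U) (hV : IsAffineOpen V) (h : V ≤ U) (i : ι)
    (t : Γ((Scheme.Modules.pullback π).obj N, π ⁻¹ᵁ U)) :
    cU π sq b N hN hV i (((Scheme.Modules.pullback π).obj N).presheaf.map (homOfLE (π.preimage_mono h)).op t) =
      N.presheaf.map (homOfLE h).op (cU π sq b N hN hU i t) := by
  obtain ⟨n, rfl, h2⟩ := exists_eq_eU π sq b N hN hU t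
  rw [h2, eU_res, cU_eU]
  rfl

lemma cU_smul {U : X.Opens} (hU : IsAffineOpen U) (a : Γ(X, U)) (i : ι)
    (t : Γ((Scheme.Modules.pullback π).obj N, π ⁻¹ᵁ U)) :
    cU π sq b N hN hU i (π.app U a • t) = a • cU π sq b N hN hU i t := by
  obtain ⟨n, rfl, h2⟩ := exists_eq_eU π sq b N hN hU t
  rw [h2, ← eU_smul, cU_eU]
  rfl

lemma eq_zero_of_cU {U : X.Opens} (hU : IsAffineOpen U) (t : Γ((Scheme.Modules.pullback π).obj N, π ⁻¹ᵁ U))
    (h : ∀ i, cU π sq b N hN hU i t = 0) : t = 0 := by
  obtain ⟨n, rfl, h2⟩ := exists_eq_eU π sq b N hN hU t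
  have : n = 0 := by
    ext i
    rw [← h2, h]
    rfl
  rw [this, map_zero]

lemma cU_smul_ps [DecidableEq ι] {U : X.Opens} (hU : IsAffineOpen U) (i j : ι) (x : Γ(N, U)) :
    cU π sq b N hN hU i (sc B X' (π ⁻¹ᵁ U) (b j) • ps π N U x) = if j = i then x else 0 := by
  rw [← eU_single, cU_eU, Finsupp.single_apply]

end Coord

variable {ι : Type v} (b : Module.Basis ι A B) (M N : X.Modules) (hM : Coh.IsCoh M) (hN : Coh.IsQCoh N)

/-- The coordinates of a morphism between pullbacks. -/
theorem exists_coord (ψ : (Scheme.Modules.pullback π).obj M ⟶ (Scheme.Modules.pullback π).obj N) (i : ι) :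
    ∃ φ : M ⟶ N, ∀ (U : X.Opens) (hU : IsAffineOpen U) (s : Γ(M, U)),
      φ.app U s = cU π sq b N hN hU i (ψ.app (π ⁻¹ᵁ U) (ps π M U s)) := by
  obtain ⟨φ, hφ⟩ := CohqA.BasisHom.exists_hom_of_basis (M := M) (N := N)
    (fun U : X.affineOpens => (U : X.Opens))
    (by rw [Subtype.range_coe_subtype]; exact X.isBasis_affineOpens)
    (fun U => (cU π sq b N hN U.2 i).comp ((ψ.app (π ⁻¹ᵁ U.1)).hom.comp (ps π M U.1)))
    (fun U V h s => by
      change cU π sq b N hN U.2 i (ψ.app (π ⁻¹ᵁ U.1) (ps π M U.1 (M.presheaf.map (homOfLE h).op s))) =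
        N.presheaf.map (homOfLE h).op (cU π sq b N hN V.2 i (ψ.app (π ⁻¹ᵁ V.1) (ps π M V.1 s)))
      rw [← cU_res π sq b N hN V.2 U.2 h, ← ps_res π M h s]
      congr 1
      exact congr($(ψ.mapPresheaf.naturality (homOfLE (π.preimage_mono h)).op) _))
    (fun U r s => by
      change cU π sq b N hN U.2 i (ψ.app (π ⁻¹ᵁ U.1) (ps π M U.1 (r • s))) =
        r • (cU π sq b N hN U.2 i (ψ.app (π ⁻¹ᵁ U.1) (ps π M U.1 s)))
      rw [ps_smul, Scheme.Modules.Hom.app_smul, cU_smul])
  exact ⟨φ, fun U hU s => hφ ⟨U, hU⟩ s⟩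

include hM hN in
/-- `IsBaseChange` for Homs. -/
theorem isBaseChange_mapL [CompactSpace X] [Module.Free A B] :
    letI : Module A ((Scheme.Modules.pullback π).obj M ⟶ (Scheme.Modules.pullback π).obj N) :=
      homModA (B := B) _ _
    haveI := isScalarTower_hom (A := A) (B := B) ((Scheme.Modules.pullback π).obj M) ((Scheme.Modules.pullback π).obj N)
    IsBaseChange B (mapL π sq M N) := by
  classical
  let i1 : Module A ((Scheme.Modules.pullback π).obj M ⟶ (Scheme.Modules.pullback π).obj N) :=
      homModA (B := B) _ _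
  have i2 := isScalarTower_hom (A := A) (B := B) ((Scheme.Modules.pullback π).obj M) ((Scheme.Modules.pullback π).obj N)
  let b := Module.Free.chooseBasis A B
  rw [isBaseChange_iff b]
  have key : ∀ (n : Module.Free.ChooseBasisIndex A B →₀ (M ⟶ N)) (i : Module.Free.ChooseBasisIndex A B) (U : X.Opens)
      (hU : IsAffineOpen U) (s : Γ(M, U)),
      cU π sq b N hN hU i ((n.sum fun i φ => b i • mapL π sq M N φ).app (π ⁻¹ᵁ U) (ps π M U s)) = (n i).app U s := by
    intro n i U hU s
    rw [Finsupp.sum, sum_app, map_sum]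
    have h1 : ∀ j ∈ n.support, cU π sq b N hN hU i ((b j • mapL π sq M N (n j)).app (π ⁻¹ᵁ U) (ps π M U s)) =
        if j = i then (n j).app U s else 0 := by
      intro j _
      rw [smul_app]
      change cU π sq b N hN hU i (_ • ((Scheme.Modules.pullback π).map (n j)).app (π ⁻¹ᵁ U) (ps π M U s)) = _
      rw [map_ps, cU_smul_ps]
    rw [Finset.sum_congr rfl h1, Finset.sum_ite_eq']
    split_ifs with h
    · rfl
    · rw [Finsupp.notMem_support_iff.1 h]
      rfl
  constructor
  · intro n n' hnn
    ext i : 1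
    refine CohqA.BasisHom.hom_ext_of_basis (fun U : X.affineOpens => (U : X.Opens)) ?_ ?_
    · rw [Subtype.range_coe_subtype]
      exact X.isBasis_affineOpens
    · intro U s
      have h1 := key n i U.1 U.2 s
      have h2 := key n' i U.1 U.2 s
      rw [← h1, ← h2]
      exact congrArg (fun ψ : (Scheme.Modules.pullback π).obj M ⟶ (Scheme.Modules.pullback π).obj N =>
        cU π sq b N hN U.2 i (ψ.app (π ⁻¹ᵁ U.1) (ps π M U.1 s))) hnn
  · intro ψ
    choose φ hφ using exists_coord π sq b M N hN ψ
    -- a finite affine cover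
    have hcov : ∀ x : X, ∃ U : X.Opens, x ∈ U ∧ IsAffineOpen U := fun x => by
      obtain ⟨U, hU, hxU, -⟩ := Opens.isBasis_iff_nbhd.mp X.isBasis_affineOpens
        (show x ∈ (⊤ : X.Opens) from trivial)
      exact ⟨U, hxU, hU⟩
    choose V hxV hV using hcov
    obtain ⟨T, hT⟩ := CompactSpace.elim_nhds_subcover (fun x => (V x : Set X))
      (fun x => (V x).isOpen.mem_nhds (hxV x))
    have hT' : ⨆ x : T, V x.1 = ⊤ := by
      rw [eq_top_iff]
      intro y _
      have hy : y ∈ ⋃ x ∈ T, (V x : Set X) := by rw [hT]; trivial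
      simp only [Set.mem_iUnion] at hy
      obtain ⟨x, hx, hy⟩ := hy
      exact Opens.mem_iSup.2 ⟨⟨x, hx⟩, hy⟩
    have hgen : ∀ x : X, ∃ G : Finset Γ(M, V x), Submodule.span Γ(X, V x) (G : Set Γ(M, V x)) = ⊤ := fun x => by
      have := hM.1
      have := CohqB.FiniteType2.finite_sections_of_isFT M hM.2 (hV x)
      exact Module.Finite.fg_top
    choose G hG using hgen
    let E : ∀ x, Γ((Scheme.Modules.pullback π).obj N, π ⁻¹ᵁ (V x)) →
      (Module.Free.ChooseBasisIndex A B →₀ Γ(N, V x)) := fun x t =>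
        (exists_eq_eU π sq b N hN (hV x) t).choose
    have hE : ∀ x t i, cU π sq b N hN (hV x) i t = E x t i := fun x t =>
      (exists_eq_eU π sq b N hN (hV x) t).choose_spec.2
    let J : Finset (Module.Free.ChooseBasisIndex A B) :=
      T.biUnion fun x => (G x).biUnion fun s => (E x (ψ.app (π ⁻¹ᵁ (V x)) (ps π M (V x) s))).support
    have hJ : ∀ i, i ∉ J → φ i = 0 := by
      intro i hi
      apply eq_zero_of_cover hM.1 (φ i) (fun x : T => V x.1) hT' (fun x => hV x.1)
      intro x m
      have hm : m ∈ Submodule.span Γ(X, V x.1) (G x.1 : Set Γ(M, V x.1)) := by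
        rw [hG]; trivial
      induction hm using Submodule.span_induction with
      | mem m hm =>
        rw [hφ i (V x.1) (hV x.1), hE]
        by_contra hne
        apply hi
        exact Finset.mem_biUnion.2 ⟨x.1, x.2, Finset.mem_biUnion.2 ⟨m, hm, Finsupp.mem_support_iff.2 hne⟩⟩
      | zero => exact map_zero _
      | add m m' _ _ h1 h2 =>
        have h3 := map_add ((φ i).app (V x.1)).hom m m'
        exact h3.trans (by
          change (φ i).app (V x.1) m + (φ i).app (V x.1) m' = 0
          rw [h1, h2, add_zero])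
      | smul a m _ h1 =>
        refine ((φ i).app_smul a m).trans ?_
        rw [h1, smul_zero]
    refine ⟨Finsupp.onFinset J φ (fun i hi => by by_contra h; exact hi (hJ i h)), ?_⟩
    apply pull_hom_ext
    intro U hU s
    rw [← sub_eq_zero]
    apply eq_zero_of_cU π sq b N hN hU
    intro i
    rw [map_sub, sub_eq_zero]
    refine (key _ i U hU s).trans ?_
    rw [← hφ i U hU s]
    rfl

end K792.HomBC
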