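import Groth.Agent.CurvesC.LinMod
import Groth.Agent.CohqB.HomSheafCoh
import Groth.Agent.CurvesB.HZero
import Groth.Agent.S0002

/-!
# Homs between coherent modules on a proper scheme are finite

`K792.HomFin.finite_hom`: `X` proper over a Noetherian ring `A`, `M`, `N` coherent; `M ⟶ N` is a finite
`A`-module (for the linear structure `Groth.Agent.CurvesC.LinMod.linearModules A X`, to be made a local
instance).
-/

set_option autoImplicit false
universe u
open CategoryTheory CategoryTheory.Limits AlgebraicGeometry Opposite

namespace K792.HomFin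

open Groth.Agent.CohqB.HomSheaf Groth.Agent.CurvesB.HZero Groth.Agent.FormalB.ModPow

attribute [local instance] Groth.Agent.CurvesC.LinMod.linearModules

variable (A : Type u) [CommRing A] {X : Scheme.{u}} [X.Over (Spec (CommRingCat.of A))]

/-- The function on `U` given by a scalar. -/
noncomputable def sc (X : Scheme.{u}) [X.Over (Spec (CommRingCat.of A))] (U : X.Opens) : A →+* Γ(X, U) :=
  (resΓ X U).comp (Coh.toGlobal (X ↘ Spec (CommRingCat.of A)))

theorem smul_app {M N : X.Modules} (a : A) (φ : M ⟶ N) (U : X.Opens) (m : Γ(M, U)) :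
    (a • φ).app U m = sc A X U a • φ.app U m := rfl

theorem smul_app' {M N : X.Modules} (a : A) (φ : M ⟶ N) (U : X.Opens) (m : Γ(M, U)) :
    (a • φ).app U m = φ.app U (sc A X U a • m) := by
  rw [smul_app, Scheme.Modules.Hom.app_smul]

/-- `H⁰(X, Hom(M, N)) ≃ Hom(M, N)`, linearly. -/
noncomputable def homLin (M N : X.Modules) : Coh.HH X (homSheaf M N) 0 ≃ₗ[A] (M ⟶ N) where
  __ := (equivAdd (homSheaf M N)).trans (topEquiv M N)
  map_smul' a x := by
    change topEquiv M N (equivAdd (homSheaf M N) (a • x)) = a • topEquiv M N (equivAdd (homSheaf M N) x)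
    rw [equivAdd_smul_over]
    apply Scheme.Modules.hom_ext
    intro U
    ext m
    rfl

/-- Homs between coherent modules on a scheme proper over a Noetherian ring are finite. -/
theorem finite_hom [IsNoetherianRing A] [IsProper (X ↘ Spec (CommRingCat.of A))]
    (M N : X.Modules) (hM : Coh.IsCoh M) (hN : Coh.IsCoh N) : Module.Finite A (M ⟶ N) := by
  have : IsLocallyNoetherian X := LocallyOfFiniteType.isLocallyNoetherian (X ↘ Spec (CommRingCat.of A))
  have h := Groth.Agent.S0002.result A X (homSheaf M N) (isCoh_homSheaf hM hN) 0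
  exact Module.Finite.equiv (homLin A M N)

end K792.HomFin
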