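import Mathlib.CategoryTheory.Linear.Basic
import Mathlib.CategoryTheory.Preadditive.Biproducts
import Mathlib.RingTheory.SimpleRing.Matrix
import Mathlib.RingTheory.SimpleRing.Congr
import Mathlib.RingTheory.IsTensorProduct
import Mathlib.CategoryTheory.Preadditive.AdditiveFunctor
import Mathlib.LinearAlgebra.Dual.Lemmas
import Mathlib.LinearAlgebra.Basis.VectorSpace

/-!
# Endomorphisms of a finite direct power, and descent of simplicity

* `Dec E L`: a decomposition of `E` as the finite direct sum of the `L i` (projections and inclusions);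
  `Dec.ofIso` from `E ≅ ∐ L`.
* `Dec.endEquiv`: for a constant family, `End E ≃ₐ[R] Matrix κ κ (End L)`.
* `isSimpleRing_of_isBaseChange`: if `S` is the base change of the `k`-algebra `R` to a field `K` and `S` is
  simple, then `R` is simple.
-/

set_option autoImplicit false
universe v u w

open CategoryTheory CategoryTheory.Limits
open scoped TensorProduct

namespace K792.EndPow

section Dec

variable {C : Type u} [Category.{v} C] [Preadditive C]

/-- A decomposition of `E` as the direct sum of the finite family `L`. -/
structure Dec (E : C) {κ : Type w} [Fintype κ] (L : κ → C) where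
  /-- inclusions -/
  ι : ∀ i, L i ⟶ E
  /-- projections -/
  π : ∀ i, E ⟶ L i
  ι_π_self : ∀ i, ι i ≫ π i = 𝟙 _
  ι_π_ne : ∀ i j, i ≠ j → ι i ≫ π j = 0
  sum : ∑ i, π i ≫ ι i = 𝟙 E

namespace Dec

variable {E : C} {κ : Type w} [Fintype κ] {L : κ → C}

/-- Transport along an isomorphism. -/
def ofIso {E' : C} (D : Dec E L) (e : E' ≅ E) : Dec E' L where
  ι i := D.ι i ≫ e.inv
  π i := e.hom ≫ D.π i
  ι_π_self i := by simp [D.ι_π_self]
  ι_π_ne i j h := by simp [D.ι_π_ne i j h]
  sum := by
    have h : ∑ i, (e.hom ≫ D.π i) ≫ D.ι i ≫ e.inv = e.hom ≫ (∑ i, D.π i ≫ D.ι i) ≫ e.inv := by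
      simp [Preadditive.comp_sum, Preadditive.sum_comp]
    rw [h, D.sum]
    simp

open Classical in
/-- The decomposition of a coproduct. -/
noncomputable def coprod (L : κ → C) [HasCoproduct L] : Dec (∐ L) L where
  ι i := Sigma.ι L i
  π i := Sigma.desc fun j => if h : j = i then eqToHom (by rw [h]) else 0
  ι_π_self i := by simp
  ι_π_ne i j h := by simp [h]
  sum := by
    apply Sigma.hom_ext
    intro j
    rw [Preadditive.comp_sum, Finset.sum_eq_single j]
    · simp
    · intro i _ hij
      simp [hij.symm]
    · intro h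
      exact absurd (Finset.mem_univ j) h

/-- The decomposition given by an isomorphism with a coproduct. -/
noncomputable def ofCoprodIso [HasCoproduct L] (e : E ≅ ∐ L) : Dec E L := (coprod L).ofIso e

/-- The isomorphism with the coproduct given by a decomposition. -/
noncomputable def isoCoprod [HasCoproduct L] (D : Dec E L) : E ≅ ∐ L where
  hom := ∑ i, D.π i ≫ Sigma.ι L i
  inv := Sigma.desc D.ι
  hom_inv_id := by
    rw [Preadditive.sum_comp, ← D.sum]
    simp
  inv_hom_id := by
    apply Sigma.hom_ext
    intro j
    rw [Sigma.ι_desc_assoc, Preadditive.comp_sum, Finset.sum_eq_single j]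
    · rw [← Category.assoc, D.ι_π_self]
      simp
    · intro i _ hij
      rw [← Category.assoc, D.ι_π_ne j i hij.symm, zero_comp]
    · intro h
      exact absurd (Finset.mem_univ j) h

/-- The image of a decomposition under an additive functor. -/
def map {D' : Type*} [Category* D'] [Preadditive D'] (D : Dec E L) (F : C ⥤ D') [F.Additive] :
    Dec (F.obj E) (fun i => F.obj (L i)) where
  ι i := F.map (D.ι i)
  π i := F.map (D.π i)
  ι_π_self i := by rw [← F.map_comp, D.ι_π_self, F.map_id]
  ι_π_ne i j h := by rw [← F.map_comp, D.ι_π_ne i j h, F.map_zero]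
  sum := by
    rw [← F.map_id, ← D.sum, F.map_sum]
    simp

end Dec

variable {E L : C} {κ : Type w} [Fintype κ] [DecidableEq κ]

lemma Dec.ι_π (D : Dec E (fun _ : κ => L)) (i j : κ) : D.ι i ≫ D.π j = if i = j then 𝟙 L else 0 := by
  split_ifs with h
  · subst h
    exact D.ι_π_self i
  · exact D.ι_π_ne i j h

/-- The endomorphism ring of a direct power is a matrix ring. -/
def Dec.endRingEquiv (D : Dec E (fun _ : κ => L)) : End E ≃+* Matrix κ κ (End L) where
  toFun f := Matrix.of fun i j => D.ι j ≫ f ≫ D.π i
  invFun m := ∑ i, ∑ j, D.π j ≫ m i j ≫ D.ι i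
  left_inv f := by
    change ∑ i, ∑ j, D.π j ≫ (D.ι j ≫ f ≫ D.π i) ≫ D.ι i = f
    have h : ∀ i, ∑ j, D.π j ≫ (D.ι j ≫ f ≫ D.π i) ≫ D.ι i = f ≫ D.π i ≫ D.ι i := by
      intro i
      have h2 : ∑ j, D.π j ≫ (D.ι j ≫ f ≫ D.π i) ≫ D.ι i = (∑ j, D.π j ≫ D.ι j) ≫ f ≫ D.π i ≫ D.ι i := by
        simp [Preadditive.sum_comp]
      rw [h2, D.sum, Category.id_comp]
    rw [Finset.sum_congr rfl fun i _ => h i, ← Preadditive.comp_sum, D.sum, Category.comp_id]
  right_inv m := by
    ext i j
    change D.ι j ≫ (∑ i, ∑ j, D.π j ≫ m i j ≫ D.ι i) ≫ D.π i = m i j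
    simp only [Preadditive.comp_sum, Preadditive.sum_comp, Category.assoc]
    rw [Finset.sum_eq_single i, Finset.sum_eq_single j]
    · rw [D.ι_π_self, Category.comp_id, ← Category.assoc, D.ι_π_self, Category.id_comp]
    · intro j' _ hj
      rw [← Category.assoc, D.ι_π_ne j j' hj.symm, zero_comp]
    · intro h
      exact absurd (Finset.mem_univ j) h
    · intro i' _ hi
      apply Finset.sum_eq_zero
      intro j' _
      rw [D.ι_π_ne i' i hi, comp_zero, comp_zero, comp_zero]
    · intro h
      exact absurd (Finset.mem_univ i) h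
  map_mul' f g := by
    ext i j
    rw [Matrix.mul_apply]
    change D.ι j ≫ (g ≫ f) ≫ D.π i = ∑ k, (D.ι j ≫ g ≫ D.π k) ≫ (D.ι k ≫ f ≫ D.π i)
    have h : ∑ k, (D.ι j ≫ g ≫ D.π k) ≫ (D.ι k ≫ f ≫ D.π i) =
        D.ι j ≫ g ≫ (∑ k, D.π k ≫ D.ι k) ≫ f ≫ D.π i := by
      simp [Preadditive.sum_comp, Preadditive.comp_sum]
    rw [h, D.sum, Category.id_comp, Category.assoc]
  map_add' f g := by
    ext i j
    change D.ι j ≫ (f + g) ≫ D.π i = D.ι j ≫ f ≫ D.π i + D.ι j ≫ g ≫ D.π i
    rw [Preadditive.add_comp, Preadditive.comp_add]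

/-- The endomorphism algebra of a direct power is a matrix algebra. -/
def Dec.endEquiv (R : Type*) [CommRing R] [Linear R C] (D : Dec E (fun _ : κ => L)) :
    End E ≃ₐ[R] Matrix κ κ (End L) :=
  AlgEquiv.ofRingEquiv (f := D.endRingEquiv) (fun r => by
    ext i j
    rw [Matrix.algebraMap_matrix_apply]
    change D.ι j ≫ (algebraMap R (End E) r) ≫ D.π i = _
    rw [Algebra.algebraMap_eq_smul_one, End.one_def, Linear.smul_comp, Linear.comp_smul, Category.id_comp,
      D.ι_π]
    by_cases h : i = j
    · subst h
      simp only [if_true]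
      rw [Algebra.algebraMap_eq_smul_one, End.one_def]
    · rw [if_neg h, if_neg (fun h' => h h'.symm), smul_zero])

end Dec

section Simple

variable {k K R S : Type*} [Field k] [Field K] [Algebra k K] [Ring R] [Algebra k R] [Ring S] [Algebra K S]
  [Algebra k S] [IsScalarTower k K S]

omit [Ring R] [Algebra k R] [Ring S] [Algebra K S] [Algebra k S] [IsScalarTower k K S] in
/-- The map to the base change is injective. -/
theorem injective_of_isBaseChange {V W : Type*} [AddCommGroup V] [Module k V] [AddCommGroup W] [Module k W]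
    [Module K W] [IsScalarTower k K W] (f : V →ₗ[k] W) (hf : IsBaseChange K f) : Function.Injective f := by
  rw [injective_iff_map_eq_zero]
  intro x hx
  rw [← Module.forall_dual_apply_eq_zero_iff k]
  intro φ
  have h := hf.lift_eq ((Algebra.linearMap k K).comp φ) x
  rw [hx, map_zero] at h
  exact (FaithfulSMul.algebraMap_injective k K) (by rw [map_zero]; exact h.symm)

omit [Ring R] [Algebra k R] [Ring S] [Algebra K S] [Algebra k S] [IsScalarTower k K S] in
/-- The base change is spanned by the image. -/
theorem span_range_of_isBaseChange {V W : Type*} [AddCommGroup V] [Module k V] [AddCommGroup W] [Module k W]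
    [Module K W] [IsScalarTower k K W] (f : V →ₗ[k] W) (hf : IsBaseChange K f) :
    Submodule.span K (Set.range f) = ⊤ := by
  rw [eq_top_iff]
  intro y _
  induction y using hf.inductionOn with
  | zero => exact zero_mem _
  | tmul x => exact Submodule.subset_span ⟨x, rfl⟩
  | smul c x h => exact Submodule.smul_mem _ _ (h trivial)
  | add x y h1 h2 => exact add_mem (h1 trivial) (h2 trivial)

/-- Simplicity descends along a field extension. -/
theorem isSimpleRing_of_isBaseChange (f : R →ₐ[k] S) (hf : IsBaseChange K f.toLinearMap) (hS : IsSimpleRing S) :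
    IsSimpleRing R := by
  have hspan : Submodule.span K (Set.range f) = ⊤ := span_range_of_isBaseChange f.toLinearMap hf
  rw [isSimpleRing_iff_isTwoSided_imp]
  constructor
  · by_contra hR
    rw [not_nontrivial_iff_subsingleton] at hR
    have h1 : (1 : S) = 0 := by rw [← map_one f, Subsingleton.elim (1 : R) 0, map_zero]
    exact one_ne_zero h1
  · intro I hI
    have hIr : ∀ x ∈ I, ∀ r : R, x * r ∈ I := fun x hx r => hI.mul_mem_of_left r hx
    let J₀ : Submodule K S := Submodule.span K (f '' I)
    have hl : ∀ s : S, ∀ x ∈ J₀, s * x ∈ J₀ := by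
      intro s x hx
      have hs : s ∈ Submodule.span K (Set.range f) := by rw [hspan]; trivial
      induction hs using Submodule.span_induction with
      | mem s hs =>
        obtain ⟨r, rfl⟩ := hs
        induction hx using Submodule.span_induction with
        | mem x hx =>
          obtain ⟨y, hy, rfl⟩ := hx
          rw [← map_mul]
          exact Submodule.subset_span ⟨_, I.mul_mem_left r hy, rfl⟩
        | zero => rw [mul_zero]; exact zero_mem _
        | add x y _ _ h1 h2 => rw [mul_add]; exact add_mem h1 h2
        | smul c x _ h1 => rw [mul_smul_comm]; exact Submodule.smul_mem _ _ h1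
      | zero => rw [zero_mul]; exact zero_mem _
      | add s t _ _ h1 h2 => rw [add_mul]; exact add_mem h1 h2
      | smul c s _ h1 => rw [smul_mul_assoc]; exact Submodule.smul_mem _ _ h1
    have hr : ∀ s : S, ∀ x ∈ J₀, x * s ∈ J₀ := by
      intro s x hx
      have hs : s ∈ Submodule.span K (Set.range f) := by rw [hspan]; trivial
      induction hs using Submodule.span_induction with
      | mem s hs =>
        obtain ⟨r, rfl⟩ := hs
        induction hx using Submodule.span_induction with
        | mem x hx =>
          obtain ⟨y, hy, rfl⟩ := hx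
          rw [← map_mul]
          exact Submodule.subset_span ⟨_, hIr y hy r, rfl⟩
        | zero => rw [zero_mul]; exact zero_mem _
        | add x y _ _ h1 h2 => rw [add_mul]; exact add_mem h1 h2
        | smul c x _ h1 => rw [smul_mul_assoc]; exact Submodule.smul_mem _ _ h1
      | zero => rw [mul_zero]; exact zero_mem _
      | add s t _ _ h1 h2 => rw [mul_add]; exact add_mem h1 h2
      | smul c s _ h1 => rw [mul_smul_comm]; exact Submodule.smul_mem _ _ h1
    let J : Ideal S :=
      { carrier := J₀
        add_mem' := fun h1 h2 => add_mem h1 h2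
        zero_mem' := zero_mem J₀
        smul_mem' := fun s x hx => hl s x hx }
    have hJ : J.IsTwoSided := ⟨fun {x} s hx => hr s x hx⟩
    rcases (isSimpleRing_iff_isTwoSided_imp.1 hS).2 J hJ with h | h
    · left
      rw [eq_bot_iff]
      intro x hx
      have h1 : f x ∈ J := Submodule.subset_span ⟨x, hx, rfl⟩
      rw [h, Ideal.mem_bot] at h1
      exact injective_of_isBaseChange (K := K) f.toLinearMap hf (h1.trans (map_zero f).symm)
    · right
      by_contra hne
      let I₀ : Submodule k R :=
        { carrier := I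
          add_mem' := fun h1 h2 => I.add_mem h1 h2
          zero_mem' := I.zero_mem
          smul_mem' := fun c x hx => by
            rw [Algebra.smul_def]
            exact I.mul_mem_left _ hx }
      have hlt : I₀ < ⊤ := by
        rw [lt_top_iff_ne_top]
        intro h1
        apply hne
        rw [eq_top_iff]
        intro x _
        have : x ∈ I₀ := by rw [h1]; trivial
        exact this
      obtain ⟨φ, hφ0, hφ⟩ := Submodule.exists_le_ker_of_lt_top I₀ hlt
      let ψ : S →ₗ[K] K := hf.lift ((Algebra.linearMap k K).comp φ)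
      have hψ : ∀ x, ψ (f x) = algebraMap k K (φ x) := fun x =>
        hf.lift_eq ((Algebra.linearMap k K).comp φ) x
      have hψ0 : J₀ ≤ LinearMap.ker ψ := by
        rw [Submodule.span_le]
        rintro _ ⟨x, hx, rfl⟩
        change ψ (f x) = 0
        have h3 : φ x = 0 := hφ hx
        rw [hψ, h3, map_zero]
      apply hφ0
      ext x
      have hx : f x ∈ J := by rw [h]; trivial
      have h4 : ψ (f x) = 0 := hψ0 hx
      rw [hψ] at h4
      exact (FaithfulSMul.algebraMap_injective k K) (by rw [h4, LinearMap.zero_apply, map_zero])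

end Simple

end K792.EndPow
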