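import Groth.Agent.CurvesC.LinMod
import Groth.Agent.Picfga.LineHom
import Groth.Agent.ASBun.K792.HomBC
import Groth.Agent.ASBun.K792.EndPow
import Mathlib.AlgebraicGeometry.Morphisms.Proper
import Mathlib.AlgebraicGeometry.Geometrically.Integral

/-!
# Endomorphisms of an invertible module

* `exists_eq_smul`: an endomorphism of an invertible module is multiplication by a global function;
* `exists_scalar`: on an integral scheme proper over an algebraically closed field, it is multiplication by
  a scalar.
-/

set_option autoImplicit false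
universe u
open CategoryTheory CategoryTheory.Limits AlgebraicGeometry Opposite TopologicalSpace

namespace K792.EndLine

open Groth.Agent Fdesc.LocGen Picfga.LineHom FormalB.ModPow

variable {X : Scheme.{u}}

/-- An endomorphism of an invertible module is multiplication by a global function. -/
theorem exists_eq_smul {L : X.Modules} (hL : PicF.IsInvertible L) (φ : L ⟶ L) :
    ∃ r : Γ(X, ⊤), φ = Formal.smulModΓ L r := by
  rw [isInvertible_iff] at hL
  choose U e hxU he using hL
  have hcov : ⨆ x, U x = ⊤ := by
    rw [eq_top_iff]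
    intro z _
    exact Opens.mem_iSup.2 ⟨z, hxU z⟩
  choose a ha using fun x => (he x).exists_eq (φ.app (U x) (e x))
  obtain ⟨w, hw⟩ := ores_glue (V := (⊤ : X.Opens)) U (fun i ↦ le_top) hcov.ge a (by
    intro x y
    obtain ⟨g, hg⟩ := exists_smul (he y) (inf_le_right : U x ⊓ U y ≤ U y)
        (res L (inf_le_left : U x ⊓ U y ≤ U x) (e x))
    apply smul_inj (he x) (inf_le_left : U x ⊓ U y ≤ U x)
    have h1 := congrArg (res L (inf_le_left : U x ⊓ U y ≤ U x)) (ha x)
    have h2 := congrArg (res L (inf_le_right : U x ⊓ U y ≤ U y)) (ha y)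
    rw [res_smul, ← app_res] at h1 h2
    rw [← h1, ← hg, Scheme.Modules.Hom.app_smul, h2, smul_smul, smul_smul, mul_comm])
  refine ⟨w, hom_ext_of_isGen hcov he fun x => ?_⟩
  rw [ha, ← hw]
  rfl

/-- A proper integral scheme over an algebraically closed field only has constant functions. -/
theorem exists_const (K : Type u) [Field K] [IsAlgClosed K] (f : X ⟶ Spec (CommRingCat.of K)) [IsProper f]
    [IsIntegral X] (r : Γ(X, ⊤)) : ∃ c : K, r = f.appTop ((Scheme.ΓSpecIso (CommRingCat.of K)).inv c) := by
  let F : K →+* Γ(X, ⊤) := ((Scheme.ΓSpecIso (CommRingCat.of K)).inv ≫ f.appTop).hom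
  have hint : F.IsIntegral := by
    have h1 := RingHom.isIntegral_respectsIso.2 (e := (Scheme.ΓSpecIso (CommRingCat.of K)).symm.commRingCatIsoToRingEquiv)
      (f := f.appTop.hom) (isIntegral_appTop_of_universallyClosed f)
    exact h1
  have hdom : IsDomain Γ(X, ⊤) := inferInstance
  let alg : Algebra K Γ(X, ⊤) := F.toAlgebra
  have : Algebra.IsIntegral K Γ(X, ⊤) := ⟨hint⟩
  obtain ⟨c, hc⟩ := (IsAlgClosed.algebraMap_bijective_of_isIntegral (k := K) (K := Γ(X, ⊤))).2 r
  exact ⟨c, hc.symm⟩

attribute [local instance] Groth.Agent.CurvesC.LinMod.linearModules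

/-- On a proper integral scheme over an algebraically closed field, an endomorphism of an invertible
module is multiplication by a scalar. -/
theorem exists_scalar (K : Type u) [Field K] [IsAlgClosed K] [X.Over (Spec (CommRingCat.of K))]
    [IsProper (X ↘ Spec (CommRingCat.of K))] [IsIntegral X] {L : X.Modules} (hL : PicF.IsInvertible L)
    (φ : L ⟶ L) : ∃ c : K, φ = c • 𝟙 L := by
  obtain ⟨r, rfl⟩ := exists_eq_smul hL φ
  obtain ⟨c, rfl⟩ := exists_const K (X ↘ Spec (CommRingCat.of K)) r
  refine ⟨c, ?_⟩
  rw [Groth.Agent.CurvesC.LinMod.smul_id]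
  rfl

/-- An invertible module on a nonempty scheme is not zero. -/
theorem not_isZero [Nonempty X] {L : X.Modules} (hL : PicF.IsInvertible L) : ¬ IsZero L := by
  intro h
  rw [isInvertible_iff] at hL
  obtain ⟨x⟩ := (inferInstance : Nonempty X)
  obtain ⟨U, e, hx, he⟩ := hL x
  have h1 : (𝟙 L : L ⟶ L) = 0 := h.eq_of_src _ _
  have h2 : e = 0 := by
    have := congrArg (fun φ : L ⟶ L => φ.app U e) h1
    exact this
  have h3 : (1 : Γ(X, U)) = 0 := he.ext (by rw [h2, smul_zero, smul_zero])
  have : Nonempty U := ⟨⟨x, hx⟩⟩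
  exact one_ne_zero h3

/-- The endomorphism algebra of an invertible module is the ground field. -/
theorem bijective_algebraMap_end (K : Type u) [Field K] [IsAlgClosed K] [X.Over (Spec (CommRingCat.of K))]
    [IsProper (X ↘ Spec (CommRingCat.of K))] [IsIntegral X] {L : X.Modules} (hL : PicF.IsInvertible L) :
    Function.Bijective (algebraMap K (End L)) := by
  constructor
  · have : Nontrivial (End L) := ⟨⟨1, 0, fun h => not_isZero hL ((IsZero.iff_id_eq_zero L).2 h)⟩⟩
    exact FaithfulSMul.algebraMap_injective K (End L)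
  · intro φ
    obtain ⟨c, hc⟩ := exists_scalar K hL φ
    exact ⟨c, by rw [Algebra.algebraMap_eq_smul_one]; exact hc.symm⟩

end K792.EndLine
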