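import Groth.Agent.ASBun.K792.EndLine
import Groth.Agent.PerfA.CohSerre

/-!
# Base change of endomorphism algebras

* `algA`: `End E'` (`E'` on `X'` over `Spec B`) as an `A`-algebra;
* `mapEnd π sq E : End E →ₐ[A] End (π^* E)`; `isBaseChange_mapEnd`.
-/

set_option autoImplicit false
set_option backward.isDefEq.respectTransparency false
universe u
open CategoryTheory CategoryTheory.Limits AlgebraicGeometry Opposite TopologicalSpace

namespace K792.EndBC

open Groth.Agent K792.HomBC

attribute [local instance] Groth.Agent.CurvesC.LinMod.linearModules

variable {A B : Type u} [CommRing A] [CommRing B] [Algebra A B] {X X' : Scheme.{u}}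
  [X.Over (Spec (CommRingCat.of A))] [X'.Over (Spec (CommRingCat.of B))] (π : X' ⟶ X)
  (sq : IsPullback π (X' ↘ Spec (CommRingCat.of B)) (X ↘ Spec (CommRingCat.of A))
    (Spec.map (CommRingCat.ofHom (algebraMap A B))))

/-- `End E'` over `A`. -/
noncomputable abbrev algA (E : X'.Modules) : Algebra A (End E) := Algebra.compHom (End E) (algebraMap A B)

lemma isScalarTower_end (E : X'.Modules) :
    letI : Algebra A (End E) := algA (B := B) E
    IsScalarTower A B (End E) :=
  letI : Algebra A (End E) := algA (B := B) E
  ⟨fun a b c => by
    rw [Algebra.smul_def a b, mul_smul]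
    rfl⟩

/-- Base change of endomorphisms. -/
noncomputable def mapEnd (E : X.Modules) :
    letI : Algebra A (End ((Scheme.Modules.pullback π).obj E)) := algA (B := B) _
    End E →ₐ[A] End ((Scheme.Modules.pullback π).obj E) :=
  letI : Algebra A (End ((Scheme.Modules.pullback π).obj E)) := algA (B := B) _
  AlgHom.ofLinearMap (mapL π sq E E) ((Scheme.Modules.pullback π).map_id E)
    (fun f g => (Scheme.Modules.pullback π).map_comp g f)

/-- The endomorphism algebra of the base change is the base change of the endomorphism algebra. -/
theorem isBaseChange_mapEnd [CompactSpace X] [Module.Free A B] (E : X.Modules) (hE : Coh.IsCoh E) :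
    letI : Algebra A (End ((Scheme.Modules.pullback π).obj E)) := algA (B := B) _
    haveI := isScalarTower_end (A := A) (B := B) ((Scheme.Modules.pullback π).obj E)
    IsBaseChange B (mapEnd π sq E).toLinearMap :=
  isBaseChange_mapL π sq E E hE hE.1

end K792.EndBC
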