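import Groth.Agent.ASBun.K792.EndPow
import Groth.Agent.Krr.H495.Rank
import Groth.Agent.Dcoh.Spread
import Groth.Agent.Ega2.QCohLocal
import Mathlib.CategoryTheory.Idempotents.Basic
import Mathlib.LinearAlgebra.Matrix.Basis

/-!
# Decomposing an object with an action of a matrix ring; ranks

* `exists_dec`: a ring morphism `M_n(K) → End E` gives `E ≅ L^{⊕ n}`.
* `isLocBasis_dec`, `rk_dec`: the rank of `E` is `n` times the rank of `L`.
* `isInvertible_of_dec`: if `E` is finite locally free of rank `n` and `E ≅ L^{⊕ n}`, `n > 0`, then `L` is invertible.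
-/

set_option autoImplicit false
universe v u w
open CategoryTheory CategoryTheory.Limits AlgebraicGeometry
open K792.EndPow
open Groth.Agent.Sga67.Sec Groth.Agent.Sga67.LocBasis

namespace K792.TautSplit

section cat

variable {C : Type u} [Category.{v} C] [Preadditive C] [IsIdempotentComplete C] {K : Type w} [Ring K] {n : ℕ}

/-- An object with an action of a matrix ring is a power. -/
theorem exists_dec (E : C) (g : Matrix (Fin n) (Fin n) K →+* End E) (i₀ : Fin n) :
    ∃ L : C, Nonempty (Dec E (fun _ : Fin n => L)) := by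
  classical
  have hg : ∀ x y, g x ≫ g y = g (y * x) := fun x y => (g.map_mul y x).symm
  obtain ⟨L, i, p, hip, hpi⟩ := IsIdempotentComplete.idempotents_split E (g (Matrix.single i₀ i₀ 1)) (by
    rw [hg, Matrix.single_mul_single_same, one_mul])
  refine ⟨L, ⟨{ ι := fun j => i ≫ g (Matrix.single j i₀ 1)
                π := fun j => g (Matrix.single i₀ j 1) ≫ p
                ι_π_self := fun j => ?_
                ι_π_ne := fun j l hjl => ?_
                sum := ?_ }⟩⟩
  · rw [Category.assoc, ← Category.assoc (g _) (g _) p, hg, Matrix.single_mul_single_same, one_mul, ← hpi,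
      Category.assoc, hip, Category.comp_id, hip]
  · rw [Category.assoc, ← Category.assoc (g _) (g _) p, hg, Matrix.single_mul_single_of_ne _ _ _ _ hjl.symm,
      map_zero, zero_comp, comp_zero]
  · have h1 : ∀ j, (g (Matrix.single i₀ j 1) ≫ p) ≫ i ≫ g (Matrix.single j i₀ 1) = g (Matrix.single j j 1) := by
      intro j
      rw [Category.assoc, ← Category.assoc p i, hpi, hg, hg, Matrix.single_mul_single_same,
        Matrix.single_mul_single_same, one_mul, one_mul]
    rw [Finset.sum_congr rfl fun j _ => h1 j, ← map_sum]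
    have h2 : ∑ j : Fin n, Matrix.single j j (1 : K) = 1 := by
      ext a b
      rw [Matrix.sum_apply]
      simp only [Matrix.single_apply, Matrix.one_apply]
      by_cases h : a = b
      · subst h
        simp
      · rw [if_neg h]
        apply Finset.sum_eq_zero
        intro j _
        rw [if_neg]
        rintro ⟨rfl, h'⟩
        exact h h'
    rw [h2]
    exact g.map_one

end cat

section rank

variable {X : Scheme.{u}} {E L : X.Modules} {κ κ' : Type} [Fintype κ] [Fintype κ'] [DecidableEq κ]

omit [DecidableEq κ] in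
/-- Local bases of a finite direct power. -/
theorem isLocBasis_dec (D : Dec E (fun _ : κ => L)) {U : X.Opens} {b : κ' → Sec L U} (hb : IsLocBasis b) :
    IsLocBasis (fun p : κ × κ' => appS (D.ι p.1) U (b p.2)) := by
  classical
  intro V h
  have hc : ∀ a : κ × κ' → Γ(X, V), comb (fun p : κ × κ' => appS (D.ι p.1) U (b p.2)) h a =
      ∑ i, appS (D.ι i) V (comb b h fun j => a (i, j)) := by
    intro a
    rw [comb_apply, Fintype.sum_prod_type]
    refine Finset.sum_congr rfl fun i _ => ?_
    rw [comb_apply, map_sum]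
    refine Finset.sum_congr rfl fun j _ => ?_
    rw [map_smul, appS_res]
  have hπ : ∀ (a : κ × κ' → Γ(X, V)) (l : κ), appS (D.π l) V
      (comb (fun p : κ × κ' => appS (D.ι p.1) U (b p.2)) h a) = comb b h fun j => a (l, j) := by
    intro a l
    rw [hc, map_sum, Finset.sum_eq_single l]
    · rw [← appS_comp, D.ι_π_self, appS_id]
    · intro i _ hi
      rw [← appS_comp, D.ι_π_ne i l hi, appS_zero]
    · intro h
      exact absurd (Finset.mem_univ l) h
  constructor
  · intro a a' haa
    funext ⟨l, j⟩
    have h1 := (hπ a l).symm.trans ((congrArg (appS (D.π l) V) haa).trans (hπ a' l))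
    exact congrFun ((hb V h).1 h1) j
  · intro s
    choose a ha using fun i => (hb V h).2 (appS (D.π i) V s)
    refine ⟨fun p => a p.1 p.2, ?_⟩
    rw [hc]
    have h1 : s = appS (∑ i, D.π i ≫ D.ι i) V s := by rw [D.sum, appS_id]
    rw [appS_sum] at h1
    rw [h1]
    refine Finset.sum_congr rfl fun i _ => ?_
    rw [appS_comp, ← ha i]

omit [DecidableEq κ] in
theorem isFinLocFree_of_dec [Nonempty κ] (D : Dec E (fun _ : κ => L)) (hE : FlatMod.IsFinLocFree E) :
    FlatMod.IsFinLocFree L :=
  Groth.Agent.Dcoh.Spread.isFinLocFree_of_retract (D.ι (Classical.arbitrary κ)) (D.π (Classical.arbitrary κ))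
    (D.ι_π_self _) hE

omit [DecidableEq κ] in
theorem rk_dec (D : Dec E (fun _ : κ => L)) (hL : FlatMod.IsFinLocFree L) (x : X) :
    Groth.Agent.Krr.H495.Rank.rk E x = Fintype.card κ * Groth.Agent.Krr.H495.Rank.rk L x := by
  obtain ⟨U, hx, b, hb⟩ := Groth.Agent.Krr.H495.Rank.exists_isLocBasis hL x
  rw [Groth.Agent.Krr.H495.Rank.rk_eq_of_isLocBasis (isLocBasis_dec D hb) hx, Fintype.card_prod, Fintype.card_fin]

omit [DecidableEq κ] in
/-- A module whose `n`-th power has rank `n` is invertible. -/
theorem isInvertible_of_dec [Nonempty κ] (D : Dec E (fun _ : κ => L)) (hE : FlatMod.IsFinLocFree E)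
    (hr : ∀ x, Groth.Agent.Krr.H495.Rank.rk E x = Fintype.card κ) : PicF.IsInvertible L := by
  have hL := isFinLocFree_of_dec D hE
  rw [← Groth.Agent.Ega2.QCohLocal.isFinLocFreeOfRank_one_iff]
  rw [Groth.Agent.Krr.H495.Rank.isFinLocFreeOfRank_iff]
  refine ⟨hL, fun x => ?_⟩
  have h := rk_dec D hL x
  rw [hr x] at h
  have hpos : 0 < Fintype.card κ := Fintype.card_pos
  exact Nat.eq_of_mul_eq_mul_left hpos (h.symm.trans (mul_one _).symm)

end rank

end K792.TautSplit
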