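import Groth.Agent.ASBun.K792.TautAct
import Groth.Agent.ASBun.K792.TautSplit
import Groth.Agent.ASBun.K792.EndBC
import Groth.Agent.CurvesA.SepSplit2
import Groth.Agent.PerfC.PullRestrict

/-!
# The tautological module after base change

`π : X' ⟶ X` the base change to `K`, `K ⊗ A ≃ M_n(K)`.
* `exists_line`: `π^* I ≅ L ^ n` with `L` invertible;
* `nonempty_end_equiv`: `A ≃ End I`.
-/

set_option autoImplicit false
universe u
open CategoryTheory CategoryTheory.Limits AlgebraicGeometry Opposite TopologicalSpace
open scoped TensorProduct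
open K652.MapSpan K792.SecBC K792.TautPt K792.TautFrame K792.TautSub K792.TautAct K792.EndPow K792.EndBC
open Groth.Agent.Sga67.Sec Groth.Agent.Sga67.LocBasis Groth.Agent.Krr.H490.LocBasisPull

namespace K792.TautMain

attribute [local instance] algΓ
attribute [local instance] Groth.Agent.CurvesC.LinMod.linearModules

theorem rk_pullback {X X' : Scheme.{u}} (π : X' ⟶ X) {E : X.Modules} (hE : FlatMod.IsFinLocFree E) (x : X') :
    Groth.Agent.Krr.H495.Rank.rk ((Scheme.Modules.pullback π).obj E) x = Groth.Agent.Krr.H495.Rank.rk E (π x) := by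
  obtain ⟨U, hx, b, hb⟩ := Groth.Agent.Krr.H495.Rank.exists_isLocBasis hE (π x)
  rw [Groth.Agent.Krr.H495.Rank.rk_eq_of_isLocBasis
    (isLocBasis_psec π E (V := π ⁻¹ᵁ U) le_rfl hb) hx, Fintype.card_fin]

variable {k : Type u} [Field k] {A : Type u} [Ring A] [Algebra k A] {X : Scheme.{u}}
  [X.Over (Spec (CommRingCat.of k))] {n : ℕ} (S : BrSev.SBStr k A (n * n - n) (X ↘ Spec (CommRingCat.of k)))
  {M : X.Modules} {ι : Type} [Fintype ι] (b : Module.Basis ι k A) {e : ι → Sec M ⊤} (he : IsLocBasis e)
  {K : Type u} [Field K] [Algebra k K] {X' : Scheme.{u}} [X'.Over (Spec (CommRingCat.of K))] (π : X' ⟶ X)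
  (sq : IsPullback π (X' ↘ Spec (CommRingCat.of K)) (X ↘ Spec (CommRingCat.of k))
      (Spec.map (CommRingCat.ofHom (algebraMap k K))))

/-- The action of `K ⊗ A` on the base change. -/
noncomputable def act : K ⊗[k] A →ₐ[K] End ((Scheme.Modules.pullback π).obj (I S b he)) :=
  letI : Algebra k (End ((Scheme.Modules.pullback π).obj (I S b he))) := algA (B := K) _
  haveI := isScalarTower_end (A := k) (B := K) ((Scheme.Modules.pullback π).obj (I S b he))
  Algebra.TensorProduct.lift (Algebra.ofId K _) ((mapEnd π sq (I S b he)).comp (rho S b he))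
    (fun r _ => Algebra.commutes r _)

include sq in
/-- The base change is a power of an invertible module. -/
theorem exists_line (hn : 0 < n) (hA : Module.finrank k A = n * n)
    (φ : K ⊗[k] A ≃ₐ[K] Matrix (Fin n) (Fin n) K) :
    ∃ L : X'.Modules, PicF.IsInvertible L ∧
      Nonempty ((Scheme.Modules.pullback π).obj (I S b he) ≅ BrSev.pow L n) := by
  obtain ⟨L, ⟨D⟩⟩ := TautSplit.exists_dec ((Scheme.Modules.pullback π).obj (I S b he))
    (((act S b he π sq).comp φ.symm.toAlgHom).toRingHom) ⟨0, hn⟩
  have : Nonempty (Fin n) := ⟨⟨0, hn⟩⟩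
  refine ⟨L, TautSplit.isInvertible_of_dec D
    (Groth.Agent.PerfC.PullRestrict.isFinLocFree_pullback π (isFinLocFree S b he)) (fun x => ?_), ⟨D.isoCoprod⟩⟩
  rw [rk_pullback π (isFinLocFree S b he), Fintype.card_fin]
  have h := rk_eq S b he (π x)
  rw [hA] at h
  have h2 : n ≤ n * n := Nat.le_mul_self n
  omega

theorem finrank_end_pow {C : Type*} [Category* C] [Preadditive C] [Linear K C] {E L : C} {n : ℕ}
    (D : Dec E (fun _ : Fin n => L)) (h : Function.Bijective (algebraMap K (End L))) :
    Module.finrank K (End E) = n * n := by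
  have e1 := (D.endEquiv K).toLinearEquiv
  have e2 : K ≃ₗ[K] End L := (AlgEquiv.ofBijective (Algebra.ofId K (End L)) h).toLinearEquiv
  have h1 : Module.finrank K (End L) = 1 := by rw [← e2.finrank_eq, Module.finrank_self]
  rw [e1.finrank_eq, Module.finrank_matrix, h1, Fintype.card_fin, mul_one]

include sq in
/-- **The endomorphism algebra of the tautological module.** -/
theorem bijective_rho [IsSimpleRing A] [CompactSpace X] [IsAlgClosed K]
    [IsProper (X' ↘ Spec (CommRingCat.of K))] [IsIntegral X'] (hn : 0 < n) (hA : Module.finrank k A = n * n)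
    (φ : K ⊗[k] A ≃ₐ[K] Matrix (Fin n) (Fin n) K) : Function.Bijective (rho S b he) := by
  obtain ⟨L, hL, ⟨i⟩⟩ := exists_line S b he π sq hn hA φ
  have D : Dec ((Scheme.Modules.pullback π).obj (I S b he)) (fun _ : Fin n => L) := Dec.ofCoprodIso i
  have h1 := finrank_end_pow (K := K) D (EndLine.bijective_algebraMap_end K hL)
  let i1 : Algebra k (End ((Scheme.Modules.pullback π).obj (I S b he))) := algA (B := K) _
  have i2 := isScalarTower_end (A := k) (B := K) ((Scheme.Modules.pullback π).obj (I S b he))
  have hbc := isBaseChange_mapEnd π sq (I S b he) (Groth.Agent.PerfA.CohSerre.isCoh_of_isFinLocFree (isFinLocFree S b he))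
  have h2 : Module.finrank k (End (I S b he)) = n * n := by
    rw [← hbc.equiv.finrank_eq, Module.finrank_baseChange] at h1
    exact h1
  have hpos : 0 < n * n := Nat.mul_pos hn hn
  have : Module.Finite k (End (I S b he)) := Module.finite_of_finrank_pos (by rw [h2]; exact hpos)
  have : Module.Finite k A := Module.finite_of_finrank_pos (by rw [hA]; exact hpos)
  have : Nontrivial (End (I S b he)) := Module.nontrivial_of_finrank_pos (R := k) (by rw [h2]; exact hpos)
  have hinj : Function.Injective (rho S b he) := (rho S b he).toRingHom.injective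
  exact ⟨hinj, (LinearMap.injective_iff_surjective_of_finrank_eq_finrank (f := (rho S b he).toLinearMap)
    (by rw [h2, hA])).1 hinj⟩

end K792.TautMain
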