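import Groth.Agent.ASBun.K791.EndDiv
import Groth.Agent.ASBun.K792.TautMain1
import Groth.Agent.Ega3B.TensorAUnit
import Groth.Agent.Brauer.K441.TPow

/-!
# Endomorphisms of tensor products

* `tensHom M N : End M ⊗ End N →ₐ[k] End (M ⊗ N)`;
* `finrank_end`: `dim_k End W = r²` for `W` of type `O(j)^r`.
-/

set_option autoImplicit false
universe u
open CategoryTheory CategoryTheory.Limits AlgebraicGeometry MonoidalCategory
open scoped TensorProduct

namespace K792.EndTens

open scoped Groth.Agent.Dcoh.MonCat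
open Groth.Agent Groth.Agent.ASBun.K791.Tens

attribute [local instance] Groth.Agent.CurvesC.LinMod.linearModules

variable (k : Type u) [Field k] {X : Scheme.{u}} [X.Over (Spec (CommRingCat.of k))]

theorem smul_id_whiskerRight (M P : X.Modules) (a : k) : (a • 𝟙 M) ▷ P = a • 𝟙 (M ⊗ P) := by
  rw [Groth.Agent.CurvesC.LinMod.smul_id, Groth.Agent.CurvesC.LinMod.smul_id]
  exact Ega3B.TensorAUnit.tensorRightMod_map_smul P M a

theorem smul_id_whiskerLeft (P M : X.Modules) (a : k) : P ◁ (a • 𝟙 M) = a • 𝟙 (P ⊗ M) := by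
  have h : P ◁ (a • 𝟙 M) = (β_ P M).hom ≫ ((a • 𝟙 M) ▷ P) ≫ (β_ P M).inv := by
    rw [← Category.assoc, ← BraidedCategory.braiding_naturality_right, Category.assoc, Iso.hom_inv_id,
      Category.comp_id]
  rw [h, smul_id_whiskerRight, Linear.smul_comp, Linear.comp_smul, Category.id_comp, Iso.hom_inv_id]

/-- Tensoring endomorphisms on the right. -/
noncomputable def rightHom (M P : X.Modules) : End M →ₐ[k] End (M ⊗ P) where
  toFun g := g ▷ P
  map_one' := id_whiskerRight _ _
  map_mul' _ _ := comp_whiskerRight _ _ _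
  map_zero' := MonoidalPreadditive.zero_whiskerRight
  map_add' _ _ := MonoidalPreadditive.add_whiskerRight _ _
  commutes' a := smul_id_whiskerRight k M P a

/-- Tensoring endomorphisms on the left. -/
noncomputable def leftHom (P M : X.Modules) : End M →ₐ[k] End (P ⊗ M) where
  toFun g := P ◁ g
  map_one' := whiskerLeft_id _ _
  map_mul' _ _ := whiskerLeft_comp _ _ _
  map_zero' := MonoidalPreadditive.whiskerLeft_zero
  map_add' _ _ := MonoidalPreadditive.whiskerLeft_add _ _
  commutes' a := smul_id_whiskerLeft k P M a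

/-- The tensor product of endomorphisms. -/
noncomputable def tensHom (M N : X.Modules) : End M ⊗[k] End N →ₐ[k] End (M ⊗ N) :=
  Algebra.TensorProduct.lift (rightHom k M N) (leftHom k M N) (fun g h => by
    exact (whisker_exchange (C := X.Modules) g h))

section geom

open Groth.Agent.ASBun.K791.QMap K792.EndPow K792.EndBC

omit [X.Over (Spec (CommRingCat.of k))] in
variable {k} in
/-- The dimension of the endomorphism algebra of a module of type `O(j)^r`. -/
theorem finrank_end {f : X ⟶ Spec (CommRingCat.of k)} {K : Type u} [Field K] [Algebra k K] {n : ℕ}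
    (e : BrSev.Splitting f K n) [IsProper f] [IsAlgClosed K] {j : ℤ} {r : ℕ} {W : X.Modules}
    (hW : Coh.IsCoh W) (hWt : BrSev.IsTwPow e j r W) :
    letI : X.Over (Spec (CommRingCat.of k)) := ⟨f⟩
    Module.finrank k (End W) = r * r := by
  let o1 : X.Over (Spec (CommRingCat.of k)) := ⟨f⟩
  let o2 : (CohB1.ProjSpace n K).Over (Spec (CommRingCat.of K)) := ⟨CohB1.ProjSpace.toSpec n K⟩
  have o3 : IsProper (CohB1.ProjSpace n K ↘ Spec (CommRingCat.of K)) := Ega3B.ProjProper.isProper_toSpec n K
  have : CompactSpace X := QuasiCompact.compactSpace_of_compactSpace f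
  obtain ⟨φ⟩ := (isTwPow_iff e j r W).1 hWt
  let D : Dec ((Scheme.Modules.pullback (q e)).obj W) (fun _ : Fin r => Twist.twistProjSpace n K j) :=
    Dec.ofCoprodIso φ
  have h1 : Function.Bijective (algebraMap K (End (Twist.twistProjSpace n K j))) :=
    K792.EndLine.bijective_algebraMap_end K (Ega3B.ProjTwist.isInvertible_twistProjSpace n K j)
  have h2 := TautMain.finrank_end_pow (K := K) D h1
  let i1 : Algebra k (End ((Scheme.Modules.pullback (q e)).obj W)) := algA (B := K) _
  have i2 := isScalarTower_end (A := k) (B := K) ((Scheme.Modules.pullback (q e)).obj W)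
  have hbc := isBaseChange_mapEnd (A := k) (B := K) (q e) (isPullback_q e) W hW
  rw [← hbc.equiv.finrank_eq, Module.finrank_baseChange] at h2
  exact h2

end geom

section alg

open K441.Br

/-- An algebra map from a simple algebra to an algebra of the same positive dimension is bijective. -/
theorem bijective_of_finrank {B C : Type*} [Ring B] [Algebra k B] [IsSimpleRing B] [Ring C] [Algebra k C]
    (φ : B →ₐ[k] C) (h : Module.finrank k B = Module.finrank k C) (hpos : 0 < Module.finrank k C) :
    Function.Bijective φ := by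
  have h1 : Module.Finite k C := Module.finite_of_finrank_pos hpos
  have h2 : Module.Finite k B := Module.finite_of_finrank_pos (by rw [h]; exact hpos)
  have h3 : Nontrivial C := Module.nontrivial_of_finrank_pos (R := k) hpos
  have hinj : Function.Injective φ := φ.toRingHom.injective
  exact ⟨hinj, (LinearMap.injective_iff_surjective_of_finrank_eq_finrank (f := φ.toLinearMap) h).1 hinj⟩

end alg

section powers

open K441.Br K441.TPow CSAGal

variable {k}

/-- `M^1 ≅ M`. -/
noncomputable def powOne {Y : Scheme.{u}} (M : Y.Modules) : BrSev.pow M 1 ≅ M where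
  hom := Sigma.desc fun _ => 𝟙 M
  inv := Sigma.ι (fun _ : Fin 1 => M) 0
  hom_inv_id := by
    apply Sigma.hom_ext
    intro i
    obtain rfl : i = 0 := Subsingleton.elim _ _
    simp
  inv_hom_id := by simp

/-- Tensor powers. -/
noncomputable def tp (I : X.Modules) : ℕ → X.Modules
  | 0 => Coh.structureModule X
  | N + 1 => CohB1.tensorMod (tp I N) I

omit [X.Over (Spec (CommRingCat.of k))] in
theorem isFinLocFree_tp {I : X.Modules} (hI : FlatMod.IsFinLocFree I) : ∀ N, FlatMod.IsFinLocFree (tp I N)
  | 0 => Groth.Agent.Sga67.TensorOps.isFinLocFree_structureModule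
  | N + 1 => Sga67.LocBasis.isFinLocFree_tensorMod (isFinLocFree_tp hI N) hI

omit [X.Over (Spec (CommRingCat.of k))] in
theorem isTwPow_tp {f : X ⟶ Spec (CommRingCat.of k)} {K : Type u} [Field K] [Algebra k K] {m : ℕ}
    (e : BrSev.Splitting f K m) {ε : ℤ} {n : ℕ} {I : X.Modules} (hI : BrSev.IsTwPow e ε n I) :
    ∀ N : ℕ, BrSev.IsTwPow e (N * ε) (n ^ N) (tp I N)
  | 0 => by
    obtain ⟨t⟩ := twist_zero e
    rw [Nat.cast_zero, zero_mul, pow_zero]
    exact ⟨pullUnit _ ≪≫ t.symm ≪≫ (powOne _).symm⟩
  | N + 1 => by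
    have h := isTwPow_tensor e (isTwPow_tp e hI N) hI
    rw [show ((N + 1 : ℕ) : ℤ) * ε = N * ε + ε by push_cast; ring, pow_succ]
    exact h

omit [X.Over (Spec (CommRingCat.of k))] in
/-- The endomorphism algebras of the tensor powers. -/
theorem nonempty_end_tp {f : X ⟶ Spec (CommRingCat.of k)} {K : Type u} [Field K] [Algebra k K] {m : ℕ}
    (e : BrSev.Splitting f K m) [IsProper f] [IsAlgClosed K] {ε : ℤ} {n : ℕ} (hn : 0 < n) {I : X.Modules}
    (hIf : FlatMod.IsFinLocFree I) (hI : BrSev.IsTwPow e ε n I) {A : Type u} [Ring A] [Algebra k A] (hA : IsCSA k A)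
    (hAn : Module.finrank k A = n * n) :
    letI : X.Over (Spec (CommRingCat.of k)) := ⟨f⟩
    ∀ (_ : A ≃ₐ[k] End I) (N : ℕ), Nonempty (tpow k A N ≃ₐ[k] End (tp I N)) := by
  let o1 : X.Over (Spec (CommRingCat.of k)) := ⟨f⟩
  intro φ N
  have hfr : ∀ N, Module.finrank k (tpow k A N) = Module.finrank k (End (tp I N)) := by
    intro N
    rw [finrank_tpow hA, finrank_end e (PerfA.CohSerre.isCoh_of_isFinLocFree (isFinLocFree_tp hIf N))
      (isTwPow_tp e hI N), hAn, mul_pow]
  have hpos : ∀ N, 0 < Module.finrank k (End (tp I N)) := by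
    intro N
    rw [finrank_end e (PerfA.CohSerre.isCoh_of_isFinLocFree (isFinLocFree_tp hIf N))
      (isTwPow_tp e hI N)]
    exact Nat.mul_pos (pow_pos hn N) (pow_pos hn N)
  induction N with
  | zero =>
    have hs := (isCSA_tpow hA 0).simple
    exact ⟨AlgEquiv.ofBijective ((Algebra.ofId k (End (tp I 0))).comp (tpowZero k A).toAlgHom)
      (bijective_of_finrank k _ (hfr 0) (hpos 0))⟩
  | succ N ih =>
    obtain ⟨ψ⟩ := ih
    have hs := (isCSA_tpow hA (N + 1)).simple
    exact ⟨AlgEquiv.ofBijective (((tensHom k (tp I N) I).comp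
      (Algebra.TensorProduct.map ψ.toAlgHom φ.toAlgHom)).comp (tpowSucc k A N).symm.toAlgHom)
      (bijective_of_finrank k _ (hfr (N + 1)) (hpos (N + 1)))⟩

end powers

end K792.EndTens
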