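import Groth.Agent.ASBun.K792.EndLine
import Groth.Agent.ASBun.K790.KSch
import Groth.Agent.ASBun.K790.Isotyp
import Groth.Agent.VarietyA.GlobalSections

/-!
# Invertible modules on a connected scheme are indecomposable

* `localEnd_line`: on a connected scheme proper over a field, the endomorphism ring of an invertible module is local;
* `indec_line`.
-/

set_option autoImplicit false
universe u
open CategoryTheory CategoryTheory.Limits AlgebraicGeometry Opposite TopologicalSpace

namespace K792.LineConn

open Groth.Agent Fdesc.LocGen Picfga.LineHom FormalB.ModPow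

theorem smulModΓ_injective {X : Scheme.{u}} {L : X.Modules} (hL : PicF.IsInvertible L) :
    Function.Injective (Formal.smulModΓ L) := by
  intro r s h
  rw [isInvertible_iff] at hL
  choose U e hxU he using hL
  have hcov : ⨆ x, U x = ⊤ := by
    rw [eq_top_iff]
    intro z _
    exact Opens.mem_iSup.2 ⟨z, hxU z⟩
  refine ores_ext (V := ⊤) U (fun i => le_top) hcov.ge fun x => ?_
  apply (he x).ext
  exact congrArg (fun φ : L ⟶ L => φ.app (U x) (e x)) h

attribute [local instance] Groth.Agent.CurvesC.LinMod.linearModules

theorem localEnd_line (k : Type u) [Field k] {X : Scheme.{u}} (p : X ⟶ Spec (CommRingCat.of k)) [IsProper p]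
    [ConnectedSpace X] {L : X.Modules} (hL : PicF.IsInvertible L) : IsLocalRing (End L) := by
  let o : X.Over (Spec (CommRingCat.of k)) := K790.KSch.over k p
  have hc := K790.Isotyp.isCoh_of_isInvertible hL
  have h1 : Module.Finite k (End L) := K790.KSch.finite_hom k p L L hc hc
  have h2 : Nontrivial (End L) := ⟨⟨1, 0, fun h => EndLine.not_isZero hL ((IsZero.iff_id_eq_zero L).2 h)⟩⟩
  refine K790.KS.isLocalRing_of_idem k fun e he => ?_
  obtain ⟨r, hr⟩ := EndLine.exists_eq_smul hL e
  have h3 : r * r = r := by
    apply smulModΓ_injective hL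
    refine (smulModΓ_mul L r r).trans ?_
    rw [← hr]
    exact he
  rcases VarietyA.GlobalSections.idem_of_connected X r h3 with h | h
  · left
    rw [hr, h]
    exact smulModΓ_zero L
  · right
    rw [hr, h]
    exact smulModΓ_one L

theorem indec_line (k : Type u) [Field k] {X : Scheme.{u}} (p : X ⟶ Spec (CommRingCat.of k)) [IsProper p]
    [ConnectedSpace X] {L : X.Modules} (hL : PicF.IsInvertible L) : K790.KS.Indec L :=
  K790.KS.indec_of_localEnd (localEnd_line k p hL)

end K792.LineConn
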