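import Groth.Agent.ASBun.K792.LineConn
import Groth.Agent.ASBun.K792.EndTens
import Groth.Prelude.Def_PicGrp

/-!
# Modules whose pull back is a power of an invertible module

`Tp π N r W`: `π^* W ≅ N ^ r`.
* `Tp.tens`, `Tp.dual`, `Tp.tp` (tensor powers);
* relations with the Picard group.
-/

set_option autoImplicit false
universe u
open CategoryTheory CategoryTheory.Limits AlgebraicGeometry MonoidalCategory

namespace K792.PicTw

open scoped Groth.Agent.Dcoh.MonCat
open Groth.Agent Groth.Agent.ASBun.K791.Tens Groth.Agent.ASBun.K791.Dual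

variable {X X' : Scheme.{u}} (π : X' ⟶ X)

/-- `π^* W ≅ N ^ r`. -/
def Tp (N : X'.Modules) (r : ℕ) (W : X.Modules) : Prop :=
  Nonempty ((Scheme.Modules.pullback π).obj W ≅ BrSev.pow N r)

variable {π}

theorem Tp.of_iso {N N' : X'.Modules} {r : ℕ} {W W' : X.Modules} (h : Tp π N r W) (i : N ≅ N') (j : W ≅ W') :
    Tp π N' r W' := by
  obtain ⟨φ⟩ := h
  exact ⟨(Scheme.Modules.pullback π).mapIso j.symm ≪≫ φ ≪≫ powMap i r⟩

theorem Tp.tens {N N' : X'.Modules} {r s : ℕ} {W W' : X.Modules} (h : Tp π N r W) (h' : Tp π N' s W') :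
    Tp π (CohB1.tensorMod N N') (r * s) (CohB1.tensorMod W W') := by
  obtain ⟨φ⟩ := h
  obtain ⟨φ'⟩ := h'
  exact ⟨pullTens π W W' ≪≫ tensMap φ φ' ≪≫ tensPow _ _ r s⟩

theorem tp_one {W : X.Modules} : Tp π ((Scheme.Modules.pullback π).obj W) 1 W := ⟨(EndTens.powOne _).symm⟩

theorem Tp.tens_one {N : X'.Modules} {r : ℕ} {W J : X.Modules} (h : Tp π N r W) :
    Tp π (CohB1.tensorMod N ((Scheme.Modules.pullback π).obj J)) r (CohB1.tensorMod W J) := by
  have h1 := h.tens (tp_one (π := π) (W := J))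
  rwa [mul_one] at h1

/-- Tensor powers. -/
theorem Tp.tp {N : X'.Modules} {r : ℕ} {W : X.Modules} (h : Tp π N r W) :
    ∀ n : ℕ, Tp π (CohB1.tensorPow N n) (r ^ n) (EndTens.tp W n)
  | 0 => ⟨pullUnit _ ≪≫ (EndTens.powOne _).symm⟩
  | n + 1 => by
    rw [pow_succ]
    exact (h.tp n).tens h

theorem isFinLocFree_of_inv {L : X.Modules} (h : PicF.IsInvertible L) : FlatMod.IsFinLocFree L :=
  K790.Isotyp.isFinLocFree_of_isInvertible h

/-- Duals. -/
theorem Tp.dual {N N' : X'.Modules} (hN : PicF.IsInvertible N) {r : ℕ} {W V : X.Modules} [ExactPairing W V]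
    (h : Tp π N r W) (t : CohB1.tensorMod N N' ≅ Coh.structureModule X') : Tp π N' r V := by
  obtain ⟨φ⟩ := h
  obtain ⟨D, -, ⟨pD⟩⟩ := exists_dual (isFinLocFree_of_inv hN)
  have i : D ≅ N' := dualIsoInverse (W := N) t (tensComm _ _ ≪≫ t)
  let := Groth.Agent.Dcoh.MonPull.monPull π
  let p1 : ExactPairing ((Scheme.Modules.pullback π).obj W) ((Scheme.Modules.pullback π).obj V) :=
    Dcoh.MonDual.mapExactPairing (Scheme.Modules.pullback π) W V
  let p2 : ExactPairing (BrSev.pow N r) (BrSev.pow D r) :=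
    Dcoh.DualSum.exactPairingCoprod (C := X'.Modules) (fun _ : Fin r => N) (fun _ : Fin r => D)
  let p3 : ExactPairing ((Scheme.Modules.pullback π).obj W) (BrSev.pow D r) := exactPairingCongrLeft φ
  exact ⟨rightDualIso p1 p3 ≪≫ powMap i r⟩

section Pic

open PicGrp

theorem iso_of_cls [Law X] {N M N' : X.Modules} (hN : PicF.IsInvertible N) (hM : PicF.IsInvertible M)
    (hN' : PicF.IsInvertible N') (h : cls N hN * cls M hM = cls N' hN') :
    Nonempty (CohB1.tensorMod N M ≅ N') :=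
  (cl_eq_cl_iff _ _).1 ((cls_mul_cls_val hN hM).symm.trans (congrArg Subtype.val h))

theorem cls_pull [Law X] [Law X'] (hπ : PullMul π) {J : X.Modules} (hJ : PicF.IsInvertible J) {Ja : X.Modules}
    (hJa : PicF.IsInvertible Ja) (a : ℤ) (h : cls Ja hJa = cls J hJ ^ a) :
    cls ((Scheme.Modules.pullback π).obj Ja) (PicLoc.isInvertible_pullback π hJa) =
      cls ((Scheme.Modules.pullback π).obj J) (PicLoc.isInvertible_pullback π hJ) ^ a := by
  rw [← pullHom_cls π hπ Ja hJa, h, map_zpow, pullHom_cls]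

end Pic

end K792.PicTw
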