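import Groth.Agent.ASBun.K792.PicTw

/-!
# Indecomposable modules with an invertible summand after base change

* `not_isZero_bc`;
* `exists_tp_of_summand`: `E` indecomposable, `N` an invertible summand of `E_K`, and some nonzero coherent module with
  base change a power of `N`: then `E_K` is a power of `N`.
* `iso_of_pow_iso`: cancellation of powers of invertible modules.
-/

set_option autoImplicit false
universe u
open CategoryTheory CategoryTheory.Limits AlgebraicGeometry

namespace K792.PicTw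

open scoped ZeroObject

open Groth.Agent Groth.Agent.ASBun.K791.Tens Groth.Agent.ASBun.K791.Dual W4c1astiltbs12

variable {k : Type u} [Field k] {X : Scheme.{u}} (p : X ⟶ Spec (CommRingCat.of k)) [IsProper p]
  (K : Type u) [Field K] [Algebra k K]

include p in
/-- The base change of a nonzero coherent module is nonzero. -/
theorem not_isZero_bc {E : X.Modules} (hE : Coh.IsCoh E) (h : ¬ IsZero E) : ¬ IsZero (bcMod p K E) := by
  intro h0
  apply h
  obtain ⟨i⟩ := K790.BC.nonempty_iso_of_bc k p K E (0 : X.Modules) hE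
    (K790.BC.isCoh_of_retract hE 0 0 ((isZero_zero X.Modules).eq_of_src _ _))
    (h0.iso (by
      rw [IsZero.iff_id_eq_zero, ← CategoryTheory.Functor.map_id]
      rw [(isZero_zero X.Modules).eq_of_src (𝟙 (0 : X.Modules)) 0, Functor.map_zero]))
  exact (isZero_zero _).of_iso i

theorem pos_of_pow {Y : Scheme.{u}} {M N : Y.Modules} (h : ¬ IsZero M) {n : ℕ} (i : M ≅ BrSev.pow N n) : 0 < n := by
  rcases Nat.eq_zero_or_pos n with hn | hn
  · exfalso
    subst hn
    apply h
    refine IsZero.of_iso ?_ i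
    rw [IsZero.iff_id_eq_zero]
    exact Sigma.hom_ext _ _ (fun i => i.elim0)
  · exact hn

theorem not_isZero_of_tp {X X' : Scheme.{u}} {π : X' ⟶ X} {N : X'.Modules} (hN : ¬ IsZero N) {D : ℕ} (hD : 0 < D)
    {M : X.Modules} (h : Tp π N D M) : ¬ IsZero M := by
  intro h0
  obtain ⟨φ⟩ := h
  apply hN
  let E := K792.EndPow.Dec.ofCoprodIso φ
  have h1 : 𝟙 ((Scheme.Modules.pullback π).obj M) = 0 := by
    rw [← CategoryTheory.Functor.map_id, h0.eq_of_src (𝟙 M) 0, Functor.map_zero]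
  rw [IsZero.iff_id_eq_zero, ← E.ι_π_self ⟨0, hD⟩, ← Category.id_comp (E.π ⟨0, hD⟩), h1, zero_comp, comp_zero]

theorem exists_tp_of_summand [ConnectedSpace ↥(W4bk4gw11416.baseChange p K)] {E : X.Modules} (hE : Coh.IsCoh E)
    (hEi : K790.KS.Indec E) {N : (W4bk4gw11416.baseChange p K).Modules} (hN : PicF.IsInvertible N)
    (i : N ⟶ bcMod p K E) (q : bcMod p K E ⟶ N) (hiq : i ≫ q = 𝟙 N) {M : X.Modules} (hM : Coh.IsCoh M)
    (hM0 : ¬ IsZero M) {D : ℕ} (hMt : Tp (proj p K) N D M) : ∃ s : ℕ, 0 < s ∧ Tp (proj p K) N s E := by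
  obtain ⟨φ⟩ := hMt
  have hp : IsProper (W4bk4gw11416.baseChangeTo p K) :=
    inferInstanceAs (IsProper (pullback.snd p (Spec.map (CommRingCat.ofHom (algebraMap k K)))))
  obtain ⟨G, n, hG, -, ⟨i', q', hiq'⟩, ⟨s, ⟨g⟩⟩⟩ := K790.Isotyp.exists_iso_pow k p K M hM hM0 N
    (K790.Isotyp.isCoh_of_isInvertible hN) (LineConn.indec_line K (W4bk4gw11416.baseChangeTo p K) hN) D φ
  have hGc : Coh.IsCoh G := K790.BC.isCoh_of_retract hM i' q' hiq'
  have h1 := K790.BC.id_mem_of_pow g
  obtain ⟨t⟩ := K790.BC.nonempty_iso_of_id_mem k p K G E hGc hE hG hEi (by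
    refine (AddSubgroup.closure_le _).2 ?_ h1
    rintro _ ⟨α, β, rfl⟩
    refine AddSubgroup.subset_closure ⟨α ≫ i, q ≫ β, ?_⟩
    rw [Category.assoc, ← Category.assoc i q β, hiq, Category.id_comp])
  refine ⟨s, pos_of_pow (not_isZero_bc p K hGc hG.1) g, ?_⟩
  exact ⟨(Scheme.Modules.pullback (proj p K)).mapIso t.symm ≪≫ g⟩

/-- Cancellation. -/
theorem iso_of_pow_iso [ConnectedSpace ↥(W4bk4gw11416.baseChange p K)]
    {N N' : (W4bk4gw11416.baseChange p K).Modules} (hN : PicF.IsInvertible N) (hN' : PicF.IsInvertible N')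
    {n n' : ℕ} (hn : 0 < n) (i : BrSev.pow N n ≅ BrSev.pow N' n') : Nonempty (N ≅ N') := by
  have hp : IsProper (W4bk4gw11416.baseChangeTo p K) :=
    inferInstanceAs (IsProper (pullback.snd p (Spec.map (CommRingCat.ofHom (algebraMap k K)))))
  obtain ⟨σ, hσ⟩ := K790.KS.exists_equiv_of_iso
    (fun _ => LineConn.localEnd_line K (W4bk4gw11416.baseChangeTo p K) hN)
    (fun _ => LineConn.localEnd_line K (W4bk4gw11416.baseChangeTo p K) hN') i
  exact hσ ⟨0, hn⟩

omit [IsProper p] in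
theorem isInvertible_of_iso {Y : Scheme.{u}} {L M : Y.Modules} (e : L ≅ M) (h : PicF.IsInvertible L) :
    PicF.IsInvertible M := by
  intro x
  obtain ⟨U, hx, ⟨a⟩⟩ := h x
  exact ⟨U, hx, ⟨(Scheme.Modules.restrictFunctor U.ι).mapIso e.symm ≪≫ a⟩⟩

omit [IsProper p] in
open PicGrp in
theorem isInvertible_tensorPow {Y : Scheme.{u}} [Law Y] {L : Y.Modules} (hL : PicF.IsInvertible L) (n : ℕ) :
    PicF.IsInvertible (CohB1.tensorPow L n) := by
  obtain ⟨L', h1, h2⟩ := (cls L hL ^ n).2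
  rw [cls_pow_val, cl_eq_cl_iff] at h1
  exact isInvertible_of_iso h1.some h2

end K792.PicTw
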