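import Groth.Agent.VarietyB.PullSec
import Groth.Agent.Picfga.SecBC
import Groth.Agent.FormalB.ModPow
import Groth.Agent.CohqA.BasisHom
import Mathlib.LinearAlgebra.TensorProduct.Basis

/-!
# Sections of the pullback of a quasi-coherent module to a base change `X ×_A B`

`X` over `Spec A`, `X'` over `Spec B`, `sq : IsPullback π (X' ↘ Spec B) (X ↘ Spec A) (Spec A → B)`.
* `SecM A M U`: sections of `M` over `U`, as an `A`-module.
* `psL`: the pullback of sections `SecM A M U → SecM B (π^* M) (π ⁻¹ U)`; `isBaseChange_psL`: it is a base change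
  along `A → B` for `M` quasi-coherent and `U` affine.
-/

set_option autoImplicit false
set_option backward.isDefEq.respectTransparency false
universe u
open CategoryTheory CategoryTheory.Limits AlgebraicGeometry Opposite TopologicalSpace
open scoped TensorProduct

namespace K792.SecBC

open Groth.Agent Groth.Agent.FormalB.ModPow

section one

variable (A : Type u) [CommRing A] (X : Scheme.{u})

/-- `Γ(X, U)` with its structure of an `A`-algebra. -/
@[nolint unusedArguments]
def FnM (_A : Type u) (X : Scheme.{u}) (U : X.Opens) : Type u := Γ(X, U)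

/-- `Γ(M, U)` with its structure of an `A`-module. -/
@[nolint unusedArguments]
def SecM (_A : Type u) {X : Scheme.{u}} (M : X.Modules) (U : X.Opens) : Type u := Γ(M, U)

variable [X.Over (Spec (CommRingCat.of A))]

/-- The function on `U` given by a scalar. -/
noncomputable def sc (U : X.Opens) : A →+* Γ(X, U) :=
  (resΓ X U).comp (Coh.toGlobal (X ↘ Spec (CommRingCat.of A)))

noncomputable instance (U : X.Opens) : CommRing (FnM A X U) := inferInstanceAs (CommRing Γ(X, U))

noncomputable instance (U : X.Opens) : Algebra A (FnM A X U) := (sc A X U).toAlgebra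

variable {X}

noncomputable instance (M : X.Modules) (U : X.Opens) : AddCommGroup (SecM A M U) :=
  inferInstanceAs (AddCommGroup Γ(M, U))

noncomputable instance (M : X.Modules) (U : X.Opens) : Module (FnM A X U) (SecM A M U) :=
  inferInstanceAs (Module Γ(X, U) Γ(M, U))

noncomputable instance (M : X.Modules) (U : X.Opens) : Module A (SecM A M U) :=
  (Module.compHom Γ(M, U) (sc A X U) : Module A Γ(M, U))

instance (M : X.Modules) (U : X.Opens) : IsScalarTower A (FnM A X U) (SecM A M U) :=
  ⟨fun a b c => by rw [Algebra.smul_def, mul_smul]; rfl⟩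

lemma smul_SecM (M : X.Modules) (U : X.Opens) (a : A) (m : SecM A M U) :
    a • m = (sc A X U a • (show Γ(M, U) from m) : Γ(M, U)) := rfl

lemma sc_res {U V : X.Opens} (h : V ≤ U) (a : A) :
    X.presheaf.map (homOfLE h).op (sc A X U a) = sc A X V a :=
  Coh.resTop_comp (X := X) (op U) (op V) (homOfLE h).op _

lemma sc_eq_appLE (U : X.Opens) (a : A) : sc A X U a =
    (X ↘ Spec (CommRingCat.of A)).appLE ⊤ U le_top ((Scheme.ΓSpecIso (CommRingCat.of A)).inv a) := by
  rfl

end one

section two

variable {A B : Type u} [CommRing A] [CommRing B] [Algebra A B] {X X' : Scheme.{u}}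
  [X.Over (Spec (CommRingCat.of A))] [X'.Over (Spec (CommRingCat.of B))] (π : X' ⟶ X)
  (sq : IsPullback π (X' ↘ Spec (CommRingCat.of B)) (X ↘ Spec (CommRingCat.of A))
    (Spec.map (CommRingCat.ofHom (algebraMap A B))))

include sq in
lemma isAffineHom_π : IsAffineHom π := by
  have h : IsAffineHom (Spec.map (CommRingCat.ofHom (algebraMap A B))) := inferInstance
  exact MorphismProperty.of_isPullback sq.flip h

include sq in
lemma isAffineOpen_preimage {U : X.Opens} (hU : IsAffineOpen U) : IsAffineOpen (π ⁻¹ᵁ U) := by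
  have := isAffineHom_π π sq
  exact hU.preimage π

include sq in
lemma appLE_sc_hom {U : X.Opens} {V : X'.Opens} (e : V ≤ π ⁻¹ᵁ U) :
    (Scheme.ΓSpecIso (CommRingCat.of A)).inv ≫
      (X ↘ Spec (CommRingCat.of A)).appLE ⊤ U le_top ≫ π.appLE U V e =
      CommRingCat.ofHom (algebraMap A B) ≫ (Scheme.ΓSpecIso (CommRingCat.of B)).inv ≫
      (X' ↘ Spec (CommRingCat.of B)).appLE ⊤ V le_top := by
  have h2 := Scheme.ΓSpecIso_inv_naturality (CommRingCat.ofHom (algebraMap A B))
  rw [← Category.assoc (CommRingCat.ofHom (algebraMap A B)), h2, Category.assoc]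
  congr 1
  have h3 : (Spec.map (CommRingCat.ofHom (algebraMap A B))).appTop =
      (Spec.map (CommRingCat.ofHom (algebraMap A B))).appLE ⊤ ⊤ le_top :=
    Scheme.Hom.app_eq_appLE _
  rw [h3, Scheme.Hom.appLE_comp_appLE, Scheme.Hom.appLE_comp_appLE]
  simp only [sq.w]

include sq in
lemma appLE_sc {U : X.Opens} {V : X'.Opens} (e : V ≤ π ⁻¹ᵁ U) (a : A) :
    π.appLE U V e (sc A X U a) = sc B X' V (algebraMap A B a) := by
  rw [sc_eq_appLE, sc_eq_appLE]
  exact congr($(appLE_sc_hom π sq e) a)

/-- The pullback of sections. -/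
noncomputable def ps (M : X.Modules) (U : X.Opens) :
    Γ(M, U) →+ Γ((Scheme.Modules.pullback π).obj M, π ⁻¹ᵁ U) :=
  VarietyB.PullSec.sec π M le_rfl

lemma ps_res (M : X.Modules) {U V : X.Opens} (h : V ≤ U) (s : Γ(M, U)) :
    ((Scheme.Modules.pullback π).obj M).presheaf.map (homOfLE (π.preimage_mono h)).op (ps π M U s) =
      ps π M V (M.presheaf.map (homOfLE h).op s) :=
  VarietyB.PullSec.sec_res π M le_rfl le_rfl h (π.preimage_mono h) s

lemma ps_smul (M : X.Modules) (U : X.Opens) (a : Γ(X, U)) (s : Γ(M, U)) :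
    ps π M U (a • s) = π.app U a • ps π M U s := by
  have h := VarietyB.PullSec.sec_smul π M (le_refl (π ⁻¹ᵁ U)) a s
  rw [← Scheme.Hom.app_eq_appLE] at h
  exact h

lemma ps_eq (M : X.Modules) (U : X.Opens) (s : Γ(M, U)) :
    ps π M U s = ((Scheme.Modules.pullbackPushforwardAdjunction π).unit.app M).app U s := by
  unfold ps
  rw [VarietyB.PullSec.sec_apply]
  have : (homOfLE (le_refl (π ⁻¹ᵁ U))).op = 𝟙 (op (π ⁻¹ᵁ U)) := rfl
  rw [this, ((Scheme.Modules.pullback π).obj M).presheaf.map_id]
  rfl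

/-- The pullback of a morphism on pulled back sections. -/
lemma map_ps {M N : X.Modules} (φ : M ⟶ N) (U : X.Opens) (s : Γ(M, U)) :
    ((Scheme.Modules.pullback π).map φ).app (π ⁻¹ᵁ U) (ps π M U s) = ps π N U (φ.app U s) := by
  rw [ps_eq, ps_eq]
  have h := (Scheme.Modules.pullbackPushforwardAdjunction π).unit.naturality φ
  have h2 := congrArg (fun f => Scheme.Modules.Hom.app f U) h
  exact (congr($h2 s)).symm

/-- Morphisms out of a pullback are determined by their values on pulled back sections. -/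
lemma pull_hom_ext {M : X.Modules} {N : X'.Modules} {ψ ψ' : (Scheme.Modules.pullback π).obj M ⟶ N}
    (h : ∀ (U : X.Opens), IsAffineOpen U → ∀ s : Γ(M, U), ψ.app (π ⁻¹ᵁ U) (ps π M U s) =
      ψ'.app (π ⁻¹ᵁ U) (ps π M U s)) : ψ = ψ' := by
  apply ((Scheme.Modules.pullbackPushforwardAdjunction π).homEquiv _ _).injective
  refine CohqA.BasisHom.hom_ext_of_basis (fun U : X.affineOpens => (U : X.Opens)) ?_ ?_
  · rw [Subtype.range_coe_subtype]
    exact X.isBasis_affineOpens
  · intro U s
    rw [Adjunction.homEquiv_unit, Adjunction.homEquiv_unit]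
    have h1 := h U.1 U.2 s
    rw [ps_eq] at h1
    exact h1

/-- `Γ(π^* M, π⁻¹ U)` as an `A`-module. -/
noncomputable abbrev modA (M : X'.Modules) (V : X'.Opens) : Module A (SecM B M V) :=
  Module.compHom _ (algebraMap A B)

/-- The pullback of sections, linear over the base. -/
noncomputable def psL (M : X.Modules) (U : X.Opens) :
    letI : Module A (SecM B ((Scheme.Modules.pullback π).obj M) (π ⁻¹ᵁ U)) := modA _ _
    SecM A M U →ₗ[A] SecM B ((Scheme.Modules.pullback π).obj M) (π ⁻¹ᵁ U) :=
  letI : Module A (SecM B ((Scheme.Modules.pullback π).obj M) (π ⁻¹ᵁ U)) := modA _ _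
  { toFun := ps π M U
    map_add' := map_add (ps π M U)
    map_smul' := fun a s => by
      refine (ps_smul π M U (sc A X U a) s).trans ?_
      rw [Scheme.Hom.app_eq_appLE, appLE_sc π sq]
      rfl }

lemma psL_apply (M : X.Modules) (U : X.Opens) (s : SecM A M U) : psL π sq M U s = ps π M U s := rfl

lemma isScalarTower_modA (M : X'.Modules) (V : X'.Opens) :
    letI : Module A (SecM B M V) := modA _ _
    IsScalarTower A B (SecM B M V) :=
  letI : Module A (SecM B M V) := modA _ _
  ⟨fun a b c => by rw [Algebra.smul_def, mul_smul]; rfl⟩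

/-- Sections of the pullback over the preimage of an affine open are the base change. -/
theorem isBaseChange_psL (M : X.Modules) (hM : Coh.IsQCoh M) {U : X.Opens} (hU : IsAffineOpen U) :
    letI : Module A (SecM B ((Scheme.Modules.pullback π).obj M) (π ⁻¹ᵁ U)) := modA _ _
    haveI := isScalarTower_modA (A := A) (B := B) ((Scheme.Modules.pullback π).obj M) (π ⁻¹ᵁ U)
    IsBaseChange B (psL π sq M U) := by
  let i1 : Module A (SecM B ((Scheme.Modules.pullback π).obj M) (π ⁻¹ᵁ U)) := modA _ _
  have i2 := isScalarTower_modA (A := A) (B := B) ((Scheme.Modules.pullback π).obj M) (π ⁻¹ᵁ U)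
  let F := FnM A X U
  let F' := FnM B X' (π ⁻¹ᵁ U)
  let a1 : Algebra F F' := (π.appLE U (π ⁻¹ᵁ U) le_rfl).hom.toAlgebra
  let a2 : Algebra A F' := Algebra.compHom F' (algebraMap A B)
  have t1 : IsScalarTower A B F' := .of_algebraMap_eq' rfl
  have t2 : IsScalarTower A F F' := .of_algebraMap_eq fun a => (appLE_sc π sq le_rfl a).symm
  have : Algebra.IsPushout A B F F' := by
    rw [← CommRingCat.isPushout_iff_isPushout]
    have h0 : π ⁻¹ᵁ U = π ⁻¹ᵁ U ⊓ (X' ↘ Spec (CommRingCat.of B)) ⁻¹ᵁ ⊤ := by simp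
    have h1 := isIso_pushoutSection_of_isAffineOpen sq (US := ⊤) (UT := ⊤) (UX := U) (UY := π ⁻¹ᵁ U)
      le_top le_top h0 (isAffineOpen_top _) (isAffineOpen_top _) hU
    have h2 := (isIso_pushoutSection_iff _ _ _ _).mp h1
    refine h2.flip.of_iso (Scheme.ΓSpecIso (CommRingCat.of A)) (Scheme.ΓSpecIso (CommRingCat.of B))
      (Iso.refl _) (Iso.refl _) ?_ ?_ ?_ ?_
    · have h3 : (Spec.map (CommRingCat.ofHom (algebraMap A B))).appTop =
          (Spec.map (CommRingCat.ofHom (algebraMap A B))).appLE ⊤ ⊤ le_top :=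
        Scheme.Hom.app_eq_appLE _
      rw [← h3]
      exact Scheme.ΓSpecIso_naturality (CommRingCat.ofHom (algebraMap A B))
    · rw [Iso.refl_hom, Category.comp_id, ← Iso.inv_comp_eq]
      rfl
    · rw [Iso.refl_hom, Category.comp_id, ← Iso.inv_comp_eq]
      rfl
    · rfl
  let i3 : Module F (SecM B ((Scheme.Modules.pullback π).obj M) (π ⁻¹ᵁ U)) :=
    VarietyB.PullSec.secModule π M (le_refl (π ⁻¹ᵁ U))
  have i4 : IsScalarTower F F' (SecM B ((Scheme.Modules.pullback π).obj M) (π ⁻¹ᵁ U)) :=
    ⟨fun a b c => by rw [Algebra.smul_def, mul_smul]; rfl⟩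
  have key := VarietyB.PullSec.isBaseChange_secₗ π M (le_refl (π ⁻¹ᵁ U)) hM hU (isAffineOpen_preimage π sq hU)
  let h : SecM A M U →ₗ[F] SecM B ((Scheme.Modules.pullback π).obj M) (π ⁻¹ᵁ U) :=
    VarietyB.PullSec.secₗ π M (le_refl (π ⁻¹ᵁ U))
  exact Picfga.SecBC.isBaseChange_of_isPushout (F := F) (F' := F') h key _ fun m => rfl

end two

end K792.SecBC
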