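import Groth.Agent.ASBun.K792.TautPull
import Groth.Agent.ASBun.K792.EndBC

/-!
# The action of `A` on the tautological module

* `lam b he a : M ⟶ M`: left multiplication by `a` on the ambient module;
* `rho S b he : A →ₐ[k] End (I S b he)`, with `rho a ≫ ι = ι ≫ lam a`.
-/

set_option autoImplicit false
universe u
open CategoryTheory CategoryTheory.Limits AlgebraicGeometry Opposite TopologicalSpace
open scoped TensorProduct
open K652.MapSpan K792.SecBC K792.TautPt K792.TautFrame K792.TautSub
open Groth.Agent.Sga67.Sec Groth.Agent.Sga67.LocBasis Groth.Agent.Krr.H490.LocBasisPull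
open Groth.Agent.Ega1.SubSheaf (Sub)

namespace K792.TautAct

attribute [local instance] algΓ
attribute [local instance] Groth.Agent.CurvesC.LinMod.linearModules

variable {k : Type u} [Field k] {A : Type u} [Ring A] [Algebra k A] {X : Scheme.{u}}
  [X.Over (Spec (CommRingCat.of k))]

section lam

variable {M : X.Modules} {ι : Type} [Fintype ι] (b : Module.Basis ι k A) {e : ι → Sec M ⊤} (he : IsLocBasis e)

theorem bcM_mul {R S : Type u} [CommRing R] [CommRing S] [Algebra k R] [Algebra k S] (f : R →ₐ[k] S)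
    (x y : R ⊗[k] A) : bcM A f (x * y) = bcM A f x * bcM A f y :=
  map_mul (Algebra.TensorProduct.map f (AlgHom.id k A)) x y

/-- Left multiplication on the ambient module. -/
noncomputable def lam (a : A) : M ⟶ M :=
  Groth.Agent.Ega1.SubSheaf.homMk
    (fun U => ((beta b he U).toLinearMap.comp ((LinearMap.mulLeft Γ(X, U) ((1 : Γ(X, U)) ⊗ₜ[k] a)).comp
      (beta b he U).symm.toLinearMap)).toAddMonoidHom)
    (fun U V h s => by
      obtain ⟨x, rfl⟩ := (beta b he U).surjective s
      have h1 : Groth.Agent.Ega1.SubSheaf.res M h (beta b he U x) = beta b he V (bcM A (resA h) x) := res_beta b he h x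
      have h2 : Groth.Agent.Ega1.SubSheaf.res M h (beta b he U ((1 : Γ(X, U)) ⊗ₜ[k] a * x)) =
        beta b he V (bcM A (resA h) ((1 : Γ(X, U)) ⊗ₜ[k] a * x)) := res_beta b he h _
      change beta b he V ((1 : Γ(X, V)) ⊗ₜ[k] a * (beta b he V).symm (Groth.Agent.Ega1.SubSheaf.res M h (beta b he U x))) =
        Groth.Agent.Ega1.SubSheaf.res M h (beta b he U ((1 : Γ(X, U)) ⊗ₜ[k] a * (beta b he U).symm (beta b he U x)))
      rw [LinearEquiv.symm_apply_apply, h1, LinearEquiv.symm_apply_apply, h2, bcM_mul, bcM_tmul, map_one])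
    (fun U r s => map_smul ((beta b he U).toLinearMap.comp ((LinearMap.mulLeft Γ(X, U) ((1 : Γ(X, U)) ⊗ₜ[k] a)).comp
      (beta b he U).symm.toLinearMap)) r s)

theorem lam_beta (a : A) (U : X.Opens) (x : Γ(X, U) ⊗[k] A) :
    appS (lam b he a) U (beta b he U x) = beta b he U (1 ⊗ₜ[k] a * x) := by
  change beta b he U ((1 : Γ(X, U)) ⊗ₜ[k] a * (beta b he U).symm (beta b he U x)) = _
  rw [LinearEquiv.symm_apply_apply]

theorem hom_ext_beta {N : X.Modules} {u v : M ⟶ N}
    (h : ∀ (U : X.Opens) (x : Γ(X, U) ⊗[k] A), appS u U (beta b he U x) = appS v U (beta b he U x)) : u = v := by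
  apply hom_ext
  intro U s
  obtain ⟨x, rfl⟩ := (beta b he U).surjective s
  exact h U x

theorem smul_appS {M N : X.Modules} (c : k) (φ : M ⟶ N) (U : X.Opens) (s : Sec M U) :
    appS (c • φ) U s = sc k X U c • appS φ U s := rfl

/-- Left multiplication as a morphism of algebras. -/
noncomputable def lamHom : A →ₐ[k] End M where
  toFun := lam b he
  map_one' := hom_ext_beta b he fun U x => by
    rw [lam_beta]
    change beta b he U (1 * x) = beta b he U x
    rw [one_mul]
  map_mul' a a' := hom_ext_beta b he fun U x => by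
    rw [lam_beta]
    change _ = appS (lam b he a) U (appS (lam b he a') U (beta b he U x))
    rw [lam_beta, lam_beta, ← mul_assoc, Algebra.TensorProduct.tmul_mul_tmul, one_mul]
  map_zero' := hom_ext_beta b he fun U x => by
    rw [lam_beta, TensorProduct.tmul_zero, zero_mul, map_zero]
    rfl
  map_add' a a' := hom_ext_beta b he fun U x => by
    change _ = appS (lam b he a) U (beta b he U x) + appS (lam b he a') U (beta b he U x)
    rw [lam_beta, lam_beta, lam_beta, TensorProduct.tmul_add, add_mul, map_add]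
  commutes' c := hom_ext_beta b he fun U x => by
    rw [lam_beta]
    change _ = appS (c • 𝟙 M) U (beta b he U x)
    rw [smul_appS, appS_id, ← map_smul]
    congr 1
    have h : (1 : Γ(X, U)) ⊗ₜ[k] algebraMap k A c = (sc k X U c) • (1 : Γ(X, U) ⊗[k] A) := by
      rw [Algebra.algebraMap_eq_smul_one, ← TensorProduct.smul_tmul, Algebra.smul_def, mul_one,
        Algebra.TensorProduct.one_def, TensorProduct.smul_tmul', smul_eq_mul, mul_one]
      rfl
    rw [h, smul_mul_assoc, one_mul]

end lam

section rho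

variable {c : ℕ} (S : BrSev.SBStr k A c (X ↘ Spec (CommRingCat.of k)))
  {M : X.Modules} {ι : Type} [Fintype ι] (b : Module.Basis ι k A) {e : ι → Sec M ⊤} (he : IsLocBasis e)

theorem exists_rho (a : A) : ∃ r : I S b he ⟶ I S b he, r ≫ (nsub S b he).ι = (nsub S b he).ι ≫ lam b he a := by
  apply Groth.Agent.Ega1.SubSheaf.exists_lift
  intro U s
  rw [← (nsub S b he).mem_iff_exists]
  apply (nsub S b he).local_mem
  intro x hx
  obtain ⟨V, hV, hxV, hVU⟩ := exists_isAffineOpen_mem_and_subset (x := x) (U := U) hx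
  have hVU' : V ≤ U := hVU
  refine ⟨V, hVU', hxV, ?_⟩
  obtain ⟨y, hy⟩ := exists_toSec S b he ⟨V, hV⟩ (res (I S b he) hVU' s)
  have h1 : res M hVU' (appS ((nsub S b he).ι ≫ lam b he a) U s) = beta b he V (1 ⊗ₜ[k] a * y.1) := by
    rw [← appS_res, ← hy, appS_comp]
    have h0 : appS (nsub S b he).ι V (toSec S b he ⟨V, hV⟩ y) = beta b he V y.1 := rfl
    rw [h0, lam_beta]
  have h2 : (beta b he V (1 ⊗ₜ[k] a * y.1) : Sec M V) ∈ (nsub S b he).obj V :=
    (mem_nsub S b he ⟨V, hV⟩ _).2 ((NX S ⟨V, hV⟩).2 _ _ y.2)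
  have h3 : Groth.Agent.Ega1.SubSheaf.res M hVU' (((nsub S b he).ι ≫ lam b he a).app U s) =
    beta b he V (1 ⊗ₜ[k] a * y.1) := h1
  rw [h3]
  exact h2

/-- The action of an element of `A`. -/
noncomputable def rhoFun (a : A) : I S b he ⟶ I S b he := (exists_rho S b he a).choose

theorem rhoFun_ι (a : A) : rhoFun S b he a ≫ (nsub S b he).ι = (nsub S b he).ι ≫ lam b he a :=
  (exists_rho S b he a).choose_spec

/-- The action of `A` on the tautological module. -/
noncomputable def rho : A →ₐ[k] End (I S b he) where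
  toFun := rhoFun S b he
  map_one' := by
    rw [← cancel_mono (nsub S b he).ι, rhoFun_ι]
    have h : lam b he (1 : A) = 𝟙 M := (lamHom b he).map_one
    rw [h, Category.comp_id]
    exact (Category.id_comp _).symm
  map_mul' a a' := by
    change rhoFun S b he (a * a') = rhoFun S b he a' ≫ rhoFun S b he a
    rw [← cancel_mono (nsub S b he).ι, rhoFun_ι, Category.assoc, rhoFun_ι, ← Category.assoc, rhoFun_ι, Category.assoc]
    have h : lam b he (a * a') = lam b he a' ≫ lam b he a := (lamHom b he).map_mul a a'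
    rw [h]
  map_zero' := by
    rw [← cancel_mono (nsub S b he).ι, rhoFun_ι]
    have h : lam b he (0 : A) = 0 := (lamHom b he).map_zero
    rw [h, comp_zero, zero_comp]
  map_add' a a' := by
    rw [← cancel_mono (nsub S b he).ι, rhoFun_ι, Preadditive.add_comp, rhoFun_ι, rhoFun_ι, ← Preadditive.comp_add]
    have h : lam b he (a + a') = lam b he a + lam b he a' := (lamHom b he).map_add a a'
    rw [h]
  commutes' c := by
    change rhoFun S b he (algebraMap k A c) = c • 𝟙 (I S b he)
    rw [← cancel_mono (nsub S b he).ι, rhoFun_ι, Linear.smul_comp, Category.id_comp]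
    have h : lam b he (algebraMap k A c) = c • 𝟙 M := (lamHom b he).commutes c
    rw [h, Linear.comp_smul, Category.comp_id]

end rho

end K792.TautAct
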