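import Groth.Prelude.Def_BrSev2
import Groth.Agent.Grass.K652.MapSpan
import Mathlib.LinearAlgebra.Matrix.Basis
import Mathlib.LinearAlgebra.TensorProduct.Finiteness

/-!
# Left ideals of matrix algebras given by a row, as points of the Severi-Brauer functor

`A` a `k`-algebra, `φ : K ⊗ A ≃ M_n(K)`.  For a `K`-algebra `R`:
* `Phi φ R : R ⊗ A ≃ M_n(R)`; natural in `R` (`Phi_bcM`);
* `rowIdeal φ R a i ha`: for a row `a` with `a i = 1`, the left ideal of matrices all of whose rows are multiples of `a`,
  an element of `BrSev.SBSet k A (n * n - n) R`;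
* `rowIdeal_map`: compatible with base change; `rowIdeal_eq`: it only depends on the line spanned by `a`.
-/

set_option autoImplicit false
universe u
open scoped TensorProduct
open K652.MapSpan

namespace K792.TautAlg

variable {k K : Type u} [Field k] [Field K] [Algebra k K] {A : Type u} [Ring A] [Algebra k A] {n : ℕ}
  (φ : K ⊗[k] A ≃ₐ[K] Matrix (Fin n) (Fin n) K)

section Phi

variable (R : Type u) [CommRing R] [Algebra k R] [Algebra K R] [IsScalarTower k K R]

/-- Extension of scalars of matrices. -/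
noncomputable def matMap : Matrix (Fin n) (Fin n) K →ₐ[k] Matrix (Fin n) (Fin n) R :=
  (IsScalarTower.toAlgHom k K R).mapMatrix

theorem matMap_apply (M : Matrix (Fin n) (Fin n) K) : matMap (k := k) R M = M.map (algebraMap K R) := rfl

/-- The identification of `R ⊗ A` with matrices. -/
noncomputable def Phi : R ⊗[k] A →ₐ[R] Matrix (Fin n) (Fin n) R :=
  Algebra.TensorProduct.lift (Algebra.ofId R _)
    ((matMap R).comp ((φ.toAlgHom.restrictScalars k).comp Algebra.TensorProduct.includeRight))
    (fun r a => Algebra.commutes r _)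

theorem Phi_tmul (r : R) (a : A) : Phi φ R (r ⊗ₜ a) = r • (φ (1 ⊗ₜ a)).map (algebraMap K R) := by
  rw [Phi, Algebra.TensorProduct.lift_tmul, Algebra.ofId_apply, ← Algebra.smul_def]
  rfl

variable {R} in
theorem Phi_bcM {S : Type u} [CommRing S] [Algebra k S] [Algebra K S] [IsScalarTower k K S] (f : R →ₐ[k] S)
    (hf : ∀ c : K, f (algebraMap K R c) = algebraMap K S c) (x : R ⊗[k] A) :
    Phi φ S (bcM A f x) = (Phi φ R x).map f := by
  induction x using TensorProduct.induction_on with
  | zero => simp
  | tmul r a =>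
    rw [bcM_tmul, Phi_tmul, Phi_tmul]
    ext i j
    simp only [Matrix.smul_apply, Matrix.map_apply, smul_eq_mul, map_mul, hf]
  | add x y hx hy =>
    rw [map_add, map_add, hx, hy, map_add]
    ext i j
    simp

/-- The map `K ⊗ A → R ⊗ A`. -/
noncomputable def psi : K ⊗[k] A →ₗ[k] R ⊗[k] A := bcM A (IsScalarTower.toAlgHom k K R)

theorem psi_tmul (c : K) (a : A) : psi R (c ⊗ₜ[k] a) = algebraMap K R c ⊗ₜ a := rfl

theorem psi_smul (c : K) (x : K ⊗[k] A) : psi R (c • x) = algebraMap K R c • psi R x :=
  bcM_smul _ c x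

theorem Phi_psi (y : K ⊗[k] A) : Phi φ R (psi R y) = (φ y).map (algebraMap K R) := by
  induction y using TensorProduct.induction_on with
  | zero => simp
  | tmul c a =>
    rw [psi_tmul, Phi_tmul]
    have h : c ⊗ₜ[k] a = c • ((1 : K) ⊗ₜ[k] a) := by rw [TensorProduct.smul_tmul', smul_eq_mul, mul_one]
    rw [h, map_smul]
    ext i j
    simp only [Matrix.smul_apply, Matrix.map_apply, smul_eq_mul, map_mul]
  | add x y hx hy =>
    rw [map_add, map_add, hx, hy, map_add]
    ext i j
    simp

/-- The matrix units. -/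
noncomputable def E (p q : Fin n) : R ⊗[k] A := psi R (φ.symm (Matrix.single p q 1))

theorem Phi_E (p q : Fin n) : Phi φ R (E φ R p q) = Matrix.single p q 1 := by
  rw [E, Phi_psi, AlgEquiv.apply_symm_apply]
  ext i j
  simp only [Matrix.map_apply, Matrix.single_apply]
  split_ifs <;> simp

theorem sum_E (X : Matrix (Fin n) (Fin n) R) : Phi φ R (∑ p, ∑ q, X p q • E φ R p q) = X := by
  rw [map_sum]
  conv_rhs => rw [Matrix.matrix_eq_sum_single X]
  refine Finset.sum_congr rfl fun p _ => ?_
  rw [map_sum]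
  refine Finset.sum_congr rfl fun q _ => ?_
  rw [map_smul, Phi_E, Matrix.smul_single, smul_eq_mul, mul_one]

theorem E_sum (x : R ⊗[k] A) : ∑ p, ∑ q, (Phi φ R x) p q • E φ R p q = x := by
  induction x using TensorProduct.induction_on with
  | zero => simp
  | tmul r a =>
    have h : ∑ p, ∑ q, (φ (1 ⊗ₜ a)) p q • φ.symm (Matrix.single p q 1) = (1 : K) ⊗ₜ[k] a := by
      apply φ.injective
      rw [map_sum]
      conv_rhs => rw [Matrix.matrix_eq_sum_single (φ (1 ⊗ₜ[k] a))]
      refine Finset.sum_congr rfl fun p _ => ?_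
      rw [map_sum]
      refine Finset.sum_congr rfl fun q _ => ?_
      rw [map_smul, AlgEquiv.apply_symm_apply, Matrix.smul_single, smul_eq_mul, mul_one]
    have h2 := congrArg (psi R) h
    rw [map_sum] at h2
    have h3 : r ⊗ₜ[k] a = r • ((1 : R) ⊗ₜ[k] a) := by rw [TensorProduct.smul_tmul', smul_eq_mul, mul_one]
    have h4 : (1 : R) ⊗ₜ[k] a = psi R ((1 : K) ⊗ₜ[k] a) := by rw [psi_tmul, map_one]
    rw [Phi_tmul, h3, h4, ← h2, Finset.smul_sum]
    refine Finset.sum_congr rfl fun p _ => ?_
    rw [map_sum, Finset.smul_sum]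
    refine Finset.sum_congr rfl fun q _ => ?_
    rw [psi_smul, Matrix.smul_apply, Matrix.map_apply, smul_eq_mul, mul_smul]
    rfl
  | add x y hx hy =>
    rw [map_add]
    conv_rhs => rw [← hx, ← hy]
    simp only [Matrix.add_apply, add_smul, Finset.sum_add_distrib]

theorem Phi_bijective : Function.Bijective (Phi φ R) := by
  refine ⟨fun x y h => ?_, fun X => ⟨_, sum_E φ R X⟩⟩
  rw [← E_sum φ R x, h, E_sum]

theorem bcM_E {S : Type u} [CommRing S] [Algebra k S] [Algebra K S] [IsScalarTower k K S] (f : R →ₐ[k] S)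
    (hf : ∀ c : K, f (algebraMap K R c) = algebraMap K S c) (p q : Fin n) :
    bcM A f (E φ R p q) = E φ S p q := by
  apply (Phi_bijective φ S).1
  rw [Phi_bcM φ f hf, Phi_E, Phi_E]
  ext i j
  simp only [Matrix.map_apply, Matrix.single_apply]
  split_ifs <;> simp

end Phi

section Row

variable (R : Type u) [CommRing R] [Algebra k R] [Algebra K R] [IsScalarTower k K R]

/-- The defining map of the ideal of matrices whose rows are multiples of `a` (`a i = 1`). -/
def rowMap {R : Type u} [CommRing R] (a : Fin n → R) (i : Fin n) :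
    Matrix (Fin n) (Fin n) R →ₗ[R] (Fin n → {q : Fin n // q ≠ i} → R) where
  toFun X p q := X p q.1 - X p i * a q.1
  map_add' X Y := by
    ext p q
    simp only [Matrix.add_apply, Pi.add_apply]
    ring
  map_smul' c X := by
    ext p q
    simp only [Matrix.smul_apply, Pi.smul_apply, smul_eq_mul, RingHom.id_apply]
    ring

theorem rowMap_surjective {R : Type u} [CommRing R] (a : Fin n → R) (i : Fin n) :
    Function.Surjective (rowMap a i) := by
  intro Y
  refine ⟨Matrix.of fun p q => if h : q = i then 0 else Y p ⟨q, h⟩, ?_⟩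
  ext p ⟨q, hq⟩
  simp [rowMap, hq]

variable {R}

/-- The defining map of the row ideal. -/
noncomputable def rowQ (a : Fin n → R) (i : Fin n) : R ⊗[k] A →ₗ[R] (Fin n → {q : Fin n // q ≠ i} → R) :=
  (rowMap a i).comp (Phi φ R).toLinearMap

theorem rowQ_surjective (a : Fin n → R) (i : Fin n) : Function.Surjective (rowQ φ a i) :=
  (rowMap_surjective a i).comp (Phi_bijective φ R).2

theorem mem_ker_rowQ (a : Fin n → R) (i : Fin n) (ha : a i = 1) (x : R ⊗[k] A) :
    x ∈ LinearMap.ker (rowQ φ a i) ↔ ∀ p q, Phi φ R x p q = Phi φ R x p i * a q := by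
  rw [LinearMap.mem_ker]
  constructor
  · intro h p q
    by_cases hq : q = i
    · subst hq
      rw [ha, mul_one]
    · have h2 := congrFun (congrFun h p) ⟨q, hq⟩
      exact sub_eq_zero.1 h2
  · intro h
    ext p q
    exact sub_eq_zero.2 (h p q.1)

/-- The left ideal of matrices whose rows are multiples of `a`. -/
noncomputable def rowIdeal (a : Fin n → R) (i : Fin n) (ha : a i = 1) : BrSev.SBSet k A (n * n - n) R :=
  ⟨{ toSubmodule := LinearMap.ker (rowQ φ a i)
     finite_quotient := Module.Finite.equiv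
      ((rowQ φ a i).quotKerEquivOfSurjective (rowQ_surjective φ a i)).symm
     projective_quotient := Module.Projective.of_equiv
      ((rowQ φ a i).quotKerEquivOfSurjective (rowQ_surjective φ a i)).symm
     rankAtStalk_eq := fun p => by
      have : Nontrivial R := ⟨⟨0, 1, fun h => p.2.ne_top ((Ideal.eq_top_iff_one _).2 (by rw [← h]; exact zero_mem _))⟩⟩
      rw [Module.rankAtStalk_eq_of_equiv ((rowQ φ a i).quotKerEquivOfSurjective (rowQ_surjective φ a i)),
        Module.rankAtStalk_eq_finrank_of_free]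
      simp only [Pi.natCast_apply]
      rw [Module.finrank_pi_fintype]
      simp only [Module.finrank_fintype_fun_eq_card]
      rw [Finset.sum_const, Finset.card_univ, Fintype.card_fin, smul_eq_mul]
      have h : Fintype.card {q : Fin n // q ≠ i} = n - 1 := by
        rw [Fintype.card_subtype_compl, Fintype.card_subtype_eq, Fintype.card_fin]
      rw [Nat.cast_id, h, Nat.mul_sub, mul_one] },
   fun b x hx => by
    change b * x ∈ LinearMap.ker (rowQ φ a i)
    rw [mem_ker_rowQ φ a i ha] at *
    intro p q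
    rw [map_mul, Matrix.mul_apply, Matrix.mul_apply, Finset.sum_mul]
    refine Finset.sum_congr rfl fun s _ => ?_
    rw [hx s q, mul_assoc]⟩

theorem mem_rowIdeal (a : Fin n → R) (i : Fin n) (ha : a i = 1) (x : R ⊗[k] A) :
    x ∈ (rowIdeal φ a i ha).1.toSubmodule ↔ ∀ p q, Phi φ R x p q = Phi φ R x p i * a q :=
  mem_ker_rowQ φ a i ha x

/-- The matrix with `p`-th row equal to `a`. -/
noncomputable def row (a : Fin n → R) (p : Fin n) : R ⊗[k] A := ∑ q, a q • E φ R p q

theorem Phi_row (a : Fin n → R) (p r q : Fin n) : Phi φ R (row φ a p) r q = if r = p then a q else 0 := by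
  rw [row, map_sum, Matrix.sum_apply]
  simp only [map_smul, Phi_E, Matrix.smul_apply, Matrix.single_apply, smul_eq_mul, mul_ite, mul_one, mul_zero]
  by_cases h : r = p
  · subst h
    simp
  · have h' : ¬ p = r := fun e => h e.symm
    simp [h, h']

theorem row_mem (a : Fin n → R) (i : Fin n) (ha : a i = 1) (p : Fin n) :
    row φ a p ∈ (rowIdeal φ a i ha).1.toSubmodule := by
  rw [mem_rowIdeal]
  intro r q
  rw [Phi_row, Phi_row, ha]
  split_ifs <;> simp

/-- Elements of the row ideal are combinations of the rows. -/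
theorem eq_sum_row (a : Fin n → R) (i : Fin n) (ha : a i = 1) (x : R ⊗[k] A)
    (hx : x ∈ (rowIdeal φ a i ha).1.toSubmodule) : x = ∑ p, (Phi φ R x p i) • row φ a p := by
  rw [mem_rowIdeal] at hx
  apply (Phi_bijective φ R).1
  ext r q
  rw [map_sum, Matrix.sum_apply]
  simp only [map_smul, Matrix.smul_apply, Phi_row, smul_eq_mul, mul_ite, mul_zero]
  rw [Finset.sum_ite_eq Finset.univ r, if_pos (Finset.mem_univ r)]
  exact hx r q

theorem rowIdeal_eq_span (a : Fin n → R) (i : Fin n) (ha : a i = 1) :
    (rowIdeal φ a i ha).1.toSubmodule = Submodule.span R (Set.range (row φ a)) := by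
  apply le_antisymm
  · intro x hx
    rw [eq_sum_row φ a i ha x hx]
    exact Submodule.sum_mem _ fun p _ => Submodule.smul_mem _ _ (Submodule.subset_span ⟨p, rfl⟩)
  · rw [Submodule.span_le]
    rintro _ ⟨p, rfl⟩
    exact row_mem φ a i ha p

/-- The rows are linearly independent. -/
theorem row_smul_eq_zero (a : Fin n → R) (i : Fin n) (ha : a i = 1) (c : Fin n → R)
    (h : ∑ p, c p • row φ a p = 0) : c = 0 := by
  ext r
  have h2 := congrArg (fun y => Phi φ R y r i) h
  simp only [map_sum, map_zero, Matrix.sum_apply, map_smul, Matrix.smul_apply, Phi_row, smul_eq_mul, mul_ite,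
    mul_zero, Matrix.zero_apply] at h2
  rw [Finset.sum_ite_eq Finset.univ r, if_pos (Finset.mem_univ r), ha, mul_one] at h2
  exact h2

theorem bcM_row {S : Type u} [CommRing S] [Algebra k S] [Algebra K S] [IsScalarTower k K S] (f : R →ₐ[k] S)
    (hf : ∀ c : K, f (algebraMap K R c) = algebraMap K S c) (a : Fin n → R) (p : Fin n) :
    bcM A f (row φ a p) = row φ (fun q => f (a q)) p := by
  rw [row, map_sum, row]
  refine Finset.sum_congr rfl fun q _ => ?_
  rw [bcM_smul, bcM_E φ R f hf]

/-- The row ideals are compatible with base change. -/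
theorem rowIdeal_map {S : Type u} [CommRing S] [Algebra k S] [Algebra K S] [IsScalarTower k K S] (f : R →ₐ[k] S)
    (hf : ∀ c : K, f (algebraMap K R c) = algebraMap K S c) (a : Fin n → R) (i : Fin n) (ha : a i = 1) :
    (Module.Grassmannian.map f (rowIdeal φ a i ha).1).toSubmodule =
      (rowIdeal φ (fun q => f (a q)) i (by rw [ha, map_one])).1.toSubmodule := by
  rw [map_toSubmodule_eq_span, rowIdeal_eq_span φ (fun q => f (a q))]
  apply le_antisymm
  · rw [Submodule.span_le]
    rintro _ ⟨x, hx, rfl⟩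
    rw [eq_sum_row φ a i ha x hx, map_sum]
    refine Submodule.sum_mem _ fun p _ => ?_
    rw [bcM_smul, bcM_row φ f hf]
    exact Submodule.smul_mem _ _ (Submodule.subset_span ⟨p, rfl⟩)
  · apply Submodule.span_mono
    rintro _ ⟨p, rfl⟩
    exact ⟨row φ a p, row_mem φ a i ha p, bcM_row φ f hf a p⟩

/-- The row ideal only depends on the line. -/
theorem rowIdeal_eq (a b : Fin n → R) (i j : Fin n) (ha : a i = 1) (hb : b j = 1) (u : R) (h : ∀ q, a q = u * b q) :
    (rowIdeal φ a i ha).1.toSubmodule = (rowIdeal φ b j hb).1.toSubmodule := by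
  have hu : u * b i = 1 := by rw [← h, ha]
  ext x
  rw [mem_rowIdeal, mem_rowIdeal]
  constructor
  · intro hx p q
    rw [hx p j, hx p q, h q, h j, hb, mul_one, mul_assoc]
  · intro hx p q
    rw [hx p i, hx p q, h q, mul_assoc, ← mul_assoc (b i) u (b q), mul_comm (b i) u, hu, one_mul]

end Row

end K792.TautAlg
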