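import Groth.Agent.ASBun.K792.TautPt
import Groth.Agent.Krr.H490.LocBasisPull

/-!
# Sections of a module with a global basis indexed by a basis of `A`

`Z` over `Spec k`, `b` a basis of `A`, `M` an `O_Z`-module with global sections `e i` forming a local basis.
* `beta b he V : Γ(Z, V) ⊗ A ≃ Γ(M, V)`; compatible with restriction (`res_beta`) and pull back (`psec_beta`).
-/

set_option autoImplicit false
universe u
open CategoryTheory CategoryTheory.Limits AlgebraicGeometry Opposite TopologicalSpace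
open scoped TensorProduct
open K652.MapSpan K792.SecBC K792.TautPt
open Groth.Agent.Sga67.Sec Groth.Agent.Sga67.LocBasis Groth.Agent.Krr.H490.LocBasisPull

namespace K792.TautFrame

attribute [local instance] algΓ

section ext

variable {k : Type u} [Field k] {A : Type u} [Ring A] [Algebra k A] {ι : Type*} [Fintype ι] (b : Module.Basis ι k A)

/-- Semilinear maps out of `R ⊗ A` are determined by the basis. -/
theorem ext_basis {R S : Type u} [CommRing R] [CommRing S] [Algebra k R] {P : Type*} [AddCommGroup P] [Module S P]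
    (f : R →+* S) (T T' : R ⊗[k] A → P) (hadd : ∀ x y, T (x + y) = T x + T y) (hadd' : ∀ x y, T' (x + y) = T' x + T' y)
    (hT : ∀ r x, T (r • x) = f r • T x) (hT' : ∀ r x, T' (r • x) = f r • T' x)
    (h : ∀ i, T (1 ⊗ₜ b i) = T' (1 ⊗ₜ b i)) (x : R ⊗[k] A) : T x = T' x := by
  let t : R ⊗[k] A →+ P := AddMonoidHom.mk' T hadd
  let t' : R ⊗[k] A →+ P := AddMonoidHom.mk' T' hadd'
  change t x = t' x
  have hx := (b.baseChange R).sum_repr x
  rw [← hx, map_sum, map_sum]
  refine Finset.sum_congr rfl fun i _ => ?_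
  rw [Module.Basis.baseChange_apply]
  change T _ = T' _
  rw [hT, hT', h]

end ext

variable {k : Type u} [Field k] {A : Type u} [Ring A] [Algebra k A] {Z : Scheme.{u}}
  [Z.Over (Spec (CommRingCat.of k))] {M : Z.Modules} {ι : Type} [Fintype ι] (b : Module.Basis ι k A)
  {e : ι → Sec M ⊤} (he : IsLocBasis e)

/-- `Γ(Z, V) ⊗ A ≃ Γ(M, V)`. -/
noncomputable def beta (V : Z.Opens) : Γ(Z, V) ⊗[k] A ≃ₗ[Γ(Z, V)] Sec M V :=
  (b.baseChange Γ(Z, V)).equiv (he.basis le_top) (Equiv.refl ι)

theorem beta_basis (V : Z.Opens) (i : ι) : beta b he V (1 ⊗ₜ b i) = res M le_top (e i) := by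
  rw [beta, ← Module.Basis.baseChange_apply, Module.Basis.equiv_apply, Equiv.refl_apply, IsLocBasis.basis_apply]

theorem res_beta {V W : Z.Opens} (h : W ≤ V) (x : Γ(Z, V) ⊗[k] A) :
    res M h (beta b he V x) = beta b he W (bcM A (resA h) x) := by
  refine ext_basis (S := Γ(Z, W)) b (Z.presheaf.map (homOfLE h).op).hom (fun x => res M h (beta b he V x))
    (fun x => beta b he W (bcM A (resA h) x)) ?_ ?_ ?_ ?_ ?_ x
  · intro x y
    simp only [map_add]
  · intro x y
    simp only [map_add]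
  · intro r x
    simp only [map_smul]
    exact res_smul M h r _
  · intro r x
    rw [bcM_smul, map_smul]
    rfl
  · intro i
    rw [bcM_tmul, map_one, beta_basis, beta_basis, res_res]

variable {Z' : Scheme.{u}} [Z'.Over (Spec (CommRingCat.of k))] (g : Z' ⟶ Z)
  (hg : g ≫ (Z ↘ Spec (CommRingCat.of k)) = Z' ↘ Spec (CommRingCat.of k))

include he in
omit [Z.Over (Spec (CommRingCat.of k))] [Z'.Over (Spec (CommRingCat.of k))] in
/-- The pulled back global basis. -/
theorem pull_basis : IsLocBasis (fun i => psec g M (show (⊤ : Z'.Opens) ≤ g ⁻¹ᵁ ⊤ from le_rfl) (e i)) :=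
  isLocBasis_psec g M _ he

theorem psec_add {V : Z.Opens} {V' : Z'.Opens} (h : V' ≤ g ⁻¹ᵁ V) (s t : Sec M V) :
    psec g M h (s + t) = psec g M h s + psec g M h t :=
  map_add (Groth.Agent.VarietyB.PullSec.sec g M h) s t

theorem psec_smul {V : Z.Opens} {V' : Z'.Opens} (h : V' ≤ g ⁻¹ᵁ V) (r : Γ(Z, V)) (s : Sec M V) :
    psec g M h (r • s) = (g.appLE V V' h r) • psec g M h s :=
  Groth.Agent.VarietyB.PullSec.sec_smul g M h r s

theorem res_psec {V : Z.Opens} {V' : Z'.Opens} (h : V' ≤ g ⁻¹ᵁ V) {W : Z.Opens} {W' : Z'.Opens}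
    (h' : W' ≤ g ⁻¹ᵁ W) (i : W ≤ V) (i' : W' ≤ V') (s : Sec M V) :
    res _ i' (psec g M h s) = psec g M h' (res M i s) :=
  Groth.Agent.VarietyB.PullSec.sec_res g M h h' i i' s

theorem psec_beta {V : Z.Opens} {V' : Z'.Opens} (h : V' ≤ g ⁻¹ᵁ V) (x : Γ(Z, V) ⊗[k] A) :
    psec g M h (beta b he V x) = beta b (pull_basis he g) V' (bcM A (appA g hg h) x) := by
  refine ext_basis (S := Γ(Z', V')) b (g.appLE V V' h).hom (fun x => psec g M h (beta b he V x))
    (fun x => beta b (pull_basis he g) V' (bcM A (appA g hg h) x)) ?_ ?_ ?_ ?_ ?_ x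
  · intro x y
    simp only [map_add, psec_add]
  · intro x y
    simp only [map_add]
  · intro r x
    simp only [map_smul, psec_smul]
  · intro r x
    rw [bcM_smul, map_smul]
    rfl
  · intro i
    rw [bcM_tmul, map_one, beta_basis, beta_basis]
    exact (res_psec g (M := M) le_rfl h le_top le_top (e i)).symm

end K792.TautFrame
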