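import Groth.Agent.ASBun.K792.TautPt
import Groth.Agent.EGA2.K36.GlueAff

/-!
# Glueing a morphism to a Severi-Brauer scheme from compatible left ideals

* `exists_glue`: left ideals over the members of an affine open cover with affine intersections, compatible on the
  intersections, come from a morphism `H : Z ⟶ X` over `k`.
-/

set_option autoImplicit false
universe u
open CategoryTheory CategoryTheory.Limits AlgebraicGeometry Opposite TopologicalSpace
open scoped TensorProduct
open K652.MapSpan K792.SecBC K792.TautPt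

namespace K792.TautGlue

attribute [local instance] algΓ

variable {k : Type u} [Field k] {X Z : Scheme.{u}} [Z.Over (Spec (CommRingCat.of k))]
  [X.Over (Spec (CommRingCat.of k))]

omit [X.Over (Spec (CommRingCat.of k))] in
/-- Points determine the ideal. -/
theorem pts_ext {R : Type u} [CommRing R] [Algebra k R] {p : X ⟶ Spec (CommRingCat.of k)}
    {A : Type u} [Ring A] [Algebra k A] {c : ℕ} (S : BrSev.SBStr k A c p) {g g' : BrSev.Pts p R}
    (h : (S.bij R g).1.toSubmodule = (S.bij R g').1.toSubmodule) : g = g' := by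
  apply (S.bij R).injective
  apply Subtype.ext
  exact Module.Grassmannian.ext h

variable {A : Type u} [Ring A] [Algebra k A] {c : ℕ} (S : BrSev.SBStr k A c (X ↘ Spec (CommRingCat.of k)))

/-- The morphism from an affine open given by a left ideal. -/
noncomputable def mor {V : Z.Opens} (hV : IsAffineOpen V) (N : BrSev.SBSet k A c Γ(Z, V)) : (V : Scheme.{u}) ⟶ X :=
  hV.isoSpec.hom ≫ ((S.bij Γ(Z, V)).symm N).1

theorem isoSpec_inv_mor {V : Z.Opens} (hV : IsAffineOpen V) (N : BrSev.SBSet k A c Γ(Z, V)) :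
    hV.isoSpec.inv ≫ mor S hV N = ((S.bij Γ(Z, V)).symm N).1 := by
  rw [mor, Iso.inv_hom_id_assoc]

/-- Restriction of `mor`. -/
theorem isoSpec_inv_homOfLE {V W : Z.Opens} (hV : IsAffineOpen V) (hW : IsAffineOpen W) (h : W ≤ V) :
    hW.isoSpec.inv ≫ Z.homOfLE h = Spec.map (Z.presheaf.map (homOfLE h).op) ≫ hV.isoSpec.inv := by
  rw [← cancel_mono V.ι, Category.assoc, Category.assoc, Scheme.homOfLE_ι, IsAffineOpen.isoSpec_inv_ι,
    IsAffineOpen.isoSpec_inv_ι, IsAffineOpen.map_fromSpec]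

theorem homOfLE_mor {V W : Z.Opens} (hV : IsAffineOpen V) (hW : IsAffineOpen W) (h : W ≤ V)
    (N : BrSev.SBSet k A c Γ(Z, V)) (N' : BrSev.SBSet k A c Γ(Z, W))
    (hN : N'.1.toSubmodule = (Module.Grassmannian.map (resA h) N.1).toSubmodule) :
    Z.homOfLE h ≫ mor S hV N = mor S hW N' := by
  rw [← cancel_epi hW.isoSpec.inv, isoSpec_inv_mor, ← Category.assoc, isoSpec_inv_homOfLE hV hW h, Category.assoc,
    isoSpec_inv_mor]
  have h1 : BrSev.Pts.map _ (resA h) ((S.bij Γ(Z, V)).symm N) = (S.bij Γ(Z, W)).symm N' := by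
    apply pts_ext S
    rw [S.natural, Equiv.apply_symm_apply, Equiv.apply_symm_apply]
    exact hN.symm
  exact congrArg Subtype.val h1

/-- **Glueing.** -/
theorem exists_glue {ι : Type u} (W : ι → Z.Opens) (hW : ∀ i, IsAffineOpen (W i)) (hcov : ∀ x : Z, ∃ i, x ∈ W i)
    (hWW : ∀ i j, IsAffineOpen (W i ⊓ W j)) (N : ∀ i, BrSev.SBSet k A c Γ(Z, W i))
    (N' : ∀ i j, BrSev.SBSet k A c Γ(Z, W i ⊓ W j))
    (h1 : ∀ i j, (N' i j).1.toSubmodule =
      (Module.Grassmannian.map (resA (inf_le_left : W i ⊓ W j ≤ W i)) (N i).1).toSubmodule)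
    (h2 : ∀ i j, (N' i j).1.toSubmodule =
      (Module.Grassmannian.map (resA (inf_le_right : W i ⊓ W j ≤ W j)) (N j).1).toSubmodule) :
    ∃ (H : Z ⟶ X) (hH : H ≫ (X ↘ Spec (CommRingCat.of k)) = Z ↘ Spec (CommRingCat.of k)),
      ∀ i, Nid S H hH (hW i) = N i := by
  obtain ⟨H, hH⟩ := K36.GlueAff.exists_glue_opens W hcov (fun i => mor S (hW i) (N i)) (fun i j => by
    rw [homOfLE_mor S (hW i) (hWW i j) inf_le_left (N i) (N' i j) (h1 i j),
      homOfLE_mor S (hW j) (hWW i j) inf_le_right (N j) (N' i j) (h2 i j)])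
  have hf : ∀ i, (hW i).fromSpec ≫ H = ((S.bij Γ(Z, W i)).symm (N i)).1 := by
    intro i
    rw [← IsAffineOpen.isoSpec_inv_ι, Category.assoc, hH, isoSpec_inv_mor]
  have hover : H ≫ (X ↘ Spec (CommRingCat.of k)) = Z ↘ Spec (CommRingCat.of k) := by
    apply K36.GlueAff.hom_ext_opens W hcov
    intro i
    rw [← cancel_epi (hW i).isoSpec.inv, ← Category.assoc, ← Category.assoc (hW i).isoSpec.inv,
      IsAffineOpen.isoSpec_inv_ι, ← Category.assoc, hf, fromSpec_over]
    exact ((S.bij Γ(Z, W i)).symm (N i)).2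
  refine ⟨H, hover, fun i => ?_⟩
  have h3 : pt H hover (hW i) = (S.bij Γ(Z, W i)).symm (N i) := Subtype.ext (hf i)
  rw [Nid, h3, Equiv.apply_symm_apply]

end K792.TautGlue
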