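import Groth.Agent.ASBun.K792.TautRow
import Groth.Agent.Lefpen.H121.CurveForm
import Groth.Agent.VarietyB.ProjStd

/-!
# Coordinates on projective space

The coordinate data of `TautRow` on `P^m_K`: charts, ratios, generators of `O(-1)`.
-/

set_option autoImplicit false
universe u
open CategoryTheory CategoryTheory.Limits AlgebraicGeometry Opposite TopologicalSpace
open scoped TensorProduct
open K652.MapSpan K792.SecBC K792.TautPt K792.TautFrame K792.TautSub K792.TautAlg K792.EndPow
open Groth.Agent.Sga67.Sec Groth.Agent.Sga67.LocBasis Groth.Agent.Krr.H490.LocBasisPull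
open Groth.Agent.VarietyB

namespace K792.TautPn

variable (m : ℕ) (K : Type u) [Field K]

/-- The charts. -/
noncomputable abbrev D (i : Fin (m + 1)) : (CohB1.ProjSpace m K).Opens :=
  Proj.basicOpen (MvPolynomial.homogeneousSubmodule (Fin (m + 1)) K) (MvPolynomial.X i)

theorem isAffineOpen_D (i : Fin (m + 1)) : IsAffineOpen (D m K i) := ProjStd.isAffineOpen_U (Fin (m + 1)) K i

/-- The ratios. -/
noncomputable abbrev rat (i j : Fin (m + 1)) : Γ(CohB1.ProjSpace m K, D m K i) := ProjStd.ratio (Fin (m + 1)) K i j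

theorem rat_self (i : Fin (m + 1)) : rat m K i i = 1 := (ProjStd.stdData (Fin (m + 1)) K).f_self i

theorem isAffineOpen_DD (i j : Fin (m + 1)) : IsAffineOpen (D m K i ⊓ D m K j) := by
  have h : (CohB1.ProjSpace m K).basicOpen (rat m K i j) = D m K i ⊓ D m K j :=
    ProjStd.stdData_basicOpen (Fin (m + 1)) K i j
  rw [← h]
  exact (isAffineOpen_D m K i).basicOpen _

theorem exists_mem_D (z : CohB1.ProjSpace m K) : ∃ i, z ∈ D m K i := by
  have h := (ProjStd.stdData (Fin (m + 1)) K).iSup_U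
  have hz : z ∈ (⨆ i, D m K i : (CohB1.ProjSpace m K).Opens) := by
    rw [show (⨆ i, D m K i : (CohB1.ProjSpace m K).Opens) = ⊤ from h]
    trivial
  exact Opens.mem_iSup.1 hz

theorem exists_gens : ∃ u : ∀ i, Sec (Twist.twistProjSpace m K (-1)) (D m K i),
    (∀ i, Groth.Agent.Fdesc.LocGen.IsGen (M := Twist.twistProjSpace m K (-1)) (U := D m K i) (u i)) ∧
    ∀ i j, res _ (inf_le_left : D m K i ⊓ D m K j ≤ D m K i) (u i) =
      resO _ (inf_le_left : D m K i ⊓ D m K j ≤ D m K i) (rat m K i j) •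
        res _ (inf_le_right : D m K i ⊓ D m K j ≤ D m K j) (u j) := by
  obtain ⟨g, hg, hg'⟩ := Groth.Agent.Lefpen.H121.CurveForm.exists_gens (N := m) (k := K) (-1)
  refine ⟨g, hg, fun i j => ?_⟩
  have h := hg' i j
  rw [show (-(-1) : ℤ).toNat = 1 from rfl, show (-1 : ℤ).toNat = 0 from rfl, pow_zero, pow_one, one_smul] at h
  refine h.trans ?_
  have hr : Groth.Agent.Lefpen.H705.HypIdeal.ratio (r := m) (k := K) i j = rat m K i j := by
    refine Groth.Agent.Lefpen.H705.HypIdeal.section_ext _ _ fun p => ?_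
    have h1 := Groth.Agent.Lefpen.H705.HypIdeal.dehom_val
      (⟨MvPolynomial.X j, LefPen.X_mem m K j⟩ : LefPen.Form m K 1) i p
    have h2 := ProjStd.ratio_apply (Fin (m + 1)) K i j p
    refine h1.trans (Eq.trans ?_ h2.symm)
    simp only [pow_one]
  rw [hr]
  rfl

section main

attribute [local instance] algΓ

variable {k : Type u} [Field k] [Algebra k K] {X : Scheme.{u}} [X.Over (Spec (CommRingCat.of k))]
  {A : Type u} [Ring A] [Algebra k A] (φ : K ⊗[k] A ≃ₐ[K] Matrix (Fin (m + 1)) (Fin (m + 1)) K)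
  (S : BrSev.SBStr k A ((m + 1) * (m + 1) - (m + 1)) (X ↘ Spec (CommRingCat.of k)))
  {M : X.Modules} {ι : Type} [Fintype ι] (b : Module.Basis ι k A) {e : ι → Sec M ⊤} (he : IsLocBasis e)

include φ in
/-- **The morphism from projective space, and the pull back of the tautological module.** -/
theorem exists_H : ∃ H : CohB1.ProjSpace m K ⟶ X, H ≫ (X ↘ Spec (CommRingCat.of k)) =
      CohB1.ProjSpace.toSpec m K ≫ Spec.map (CommRingCat.ofHom (algebraMap k K)) ∧
    Nonempty ((Scheme.Modules.pullback H).obj (I S b he) ≅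
      BrSev.pow (Twist.twistProjSpace m K (-1)) (m + 1)) := by
  let o : (CohB1.ProjSpace m K).Over (Spec (CommRingCat.of k)) :=
    ⟨CohB1.ProjSpace.toSpec m K ≫ Spec.map (CommRingCat.ofHom (algebraMap k K))⟩
  have ht : ∀ V : (CohB1.ProjSpace m K).Opens, IsScalarTower k K Γ(CohB1.ProjSpace m K, V) :=
    TautRow.tower rfl
  have hac : ∀ i j q, resA (k := k) (inf_le_left : D m K i ⊓ D m K j ≤ D m K i) (rat m K i q) =
      resA (k := k) (inf_le_left : D m K i ⊓ D m K j ≤ D m K i) (rat m K i j) *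
        resA (k := k) (inf_le_right : D m K i ⊓ D m K j ≤ D m K j) (rat m K j q) :=
    fun i j q => ProjStd.ratio_mul (Fin (m + 1)) K i j q
  obtain ⟨H, hH, hN⟩ := TautRow.exists_H φ S (isAffineOpen_D m K) (exists_mem_D m K) (isAffineOpen_DD m K)
    (rat m K) (rat_self m K) hac
  obtain ⟨u, hu, huu⟩ := exists_gens m K
  exact ⟨H, hH, TautRow.exists_pull_iso φ S (exists_mem_D m K) (rat m K) (rat_self m K) hac b he H u hu huu hH hN
    (Dec.coprod fun _ : Fin (m + 1) => Twist.twistProjSpace m K (-1))⟩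

end main

end K792.TautPn
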