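import Groth.Agent.ASBun.K792.TautMain1
import Groth.Agent.ASBun.K792.TautPn
import Groth.Agent.ASBun.K791.QMap
import Groth.Agent.ASBun.K790.KS2
import Groth.Agent.Lefpen.H717.ProjIrr
import Groth.Agent.S10960
import Groth.Agent.S1697
import Groth.Agent.Fdesc.LocGenPullback

/-!
# Twisting sheaves on `P^m_K`: cancellation and pull back by endomorphisms

* `iso_of_pow_iso`: `L ^ n ≅ L' ^ n`, `n > 0`, gives `L ≅ L'` for invertible modules on a proper integral scheme over an
  algebraically closed field;
* `exists_pull_twist`: `g : P^m ⟶ P^m` any morphism, `m ≥ 1`: `g^* O(j) ≅ O(j c)`;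
* `twist_zero_iso`: on `P^0` all twisting sheaves are isomorphic.
-/

set_option autoImplicit false
universe u
open CategoryTheory CategoryTheory.Limits AlgebraicGeometry Opposite TopologicalSpace
open K792.EndPow Groth.Agent.ASBun.K791.Tens

namespace K792.TautMain2

attribute [local instance] Groth.Agent.CurvesC.LinMod.linearModules

section cancel

variable {K : Type u} [Field K] [IsAlgClosed K] {X : Scheme.{u}} [X.Over (Spec (CommRingCat.of K))]
  [IsProper (X ↘ Spec (CommRingCat.of K))] [IsIntegral X]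

variable (K) in
include K in
theorem localEnd {L : X.Modules} (hL : PicF.IsInvertible L) : IsLocalRing (End L) :=
  K790.KS.localEnd_of_ringEquiv
    (RingEquiv.ofBijective (algebraMap K (End L)) (EndLine.bijective_algebraMap_end K hL)) inferInstance

variable (K) in
include K in
theorem iso_of_pow_iso {L L' : X.Modules} (hL : PicF.IsInvertible L) (hL' : PicF.IsInvertible L') {n m : ℕ} (hn : 0 < n)
    (i : BrSev.pow L n ≅ BrSev.pow L' m) : Nonempty (L ≅ L') := by
  obtain ⟨σ, hσ⟩ := K790.KS.exists_equiv_of_iso (fun _ => localEnd K hL) (fun _ => localEnd K hL') i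
  exact hσ ⟨0, hn⟩

end cancel

section proj

variable (m : ℕ) (K : Type u) [Field K]

theorem isInvertible_twist (j : ℤ) : PicF.IsInvertible (Twist.twistProjSpace m K j) :=
  Groth.Agent.FormalB.TwistGen.isInvertible_twistProjSpace m K j

open Groth.Agent.Picfga.LineHom Groth.Agent.Fdesc.LocGen in
theorem twist_zero_iso (i j : ℤ) : Nonempty (Twist.twistProjSpace 0 K i ≅ Twist.twistProjSpace 0 K j) := by
  obtain ⟨g, hg, -⟩ := Groth.Agent.Lefpen.H121.CurveForm.exists_gens (N := 0) (k := K) i
  obtain ⟨g', hg', -⟩ := Groth.Agent.Lefpen.H121.CurveForm.exists_gens (N := 0) (k := K) j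
  obtain ⟨φ, -⟩ := exists_iso (L := Twist.twistProjSpace 0 K i) (N := Twist.twistProjSpace 0 K j)
    (U := fun a : Fin (0 + 1) => TautPn.D 0 K a) (top_unique fun z _ => by
      obtain ⟨i, hi⟩ := TautPn.exists_mem_D 0 K z
      exact Opens.mem_iSup.2 ⟨i, hi⟩) (e := g) hg (n := g') (trans_of_inf hg (by
        intro a b
        obtain rfl : a = b := Fin.ext (by omega)
        exact ⟨1, (one_smul _ _).symm, (one_smul _ _).symm⟩)) hg'
  exact ⟨φ⟩

variable {m K}

theorem exists_pull_twist (hm : 1 ≤ m) (g : CohB1.ProjSpace m K ⟶ CohB1.ProjSpace m K) :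
    ∃ c : ℤ, ∀ j : ℤ, Nonempty ((Scheme.Modules.pullback g).obj (Twist.twistProjSpace m K j) ≅
      Twist.twistProjSpace m K (j * c)) := by
  have hinv : ∀ j, PicF.IsInvertible ((Scheme.Modules.pullback g).obj (Twist.twistProjSpace m K j)) :=
    fun j => Groth.Agent.Fdesc.LocGen.isInvertible_pullback g (isInvertible_twist m K j)
  choose c hc using fun j => Groth.Agent.S1697.result K m _ (hinv j)
  have hadd : ∀ i j, c (i + j) = c i + c j := by
    intro i j
    refine (Groth.Agent.S10960.result K m hm _ (hinv (i + j))).unique (hc (i + j)) ?_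
    obtain ⟨a⟩ := twistProj_mul m K i j
    obtain ⟨b⟩ := twistProj_mul m K (c i) (c j)
    exact ⟨(Scheme.Modules.pullback g).mapIso a.symm ≪≫ pullTens g _ _ ≪≫ tensMap (hc i).some (hc j).some ≪≫ b⟩
  refine ⟨c 1, fun j => ?_⟩
  have h := map_zsmul (AddMonoidHom.mk' c hadd) j 1
  simp only [smul_eq_mul, mul_one, AddMonoidHom.mk'_apply] at h
  rw [← h]
  exact hc j

end proj

end K792.TautMain2
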