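import Groth.Agent.ASBun.K792.TautMain2
import Groth.Agent.Dix.ProjProper

/-!
# The tautological module on a Severi-Brauer variety

`exists_taut`: on the Severi-Brauer scheme `X` of a central simple algebra `A` of degree `n` there is a finite locally
free module `I` with `I_K ≅ O_e(ε)^n`, `ε = ±1`, and `A ≃ₐ[k] End I`.
-/

set_option autoImplicit false
universe u
open CategoryTheory CategoryTheory.Limits AlgebraicGeometry Opposite TopologicalSpace
open scoped TensorProduct
open K792.EndPow Groth.Agent.ASBun.K791.Tens K792.TautSub K792.TautMain K792.TautMain2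
open Groth.Agent.Sga67.Sec Groth.Agent.Sga67.LocBasis

namespace K792.TautMain3

attribute [local instance] Groth.Agent.CurvesC.LinMod.linearModules

theorem exists_splits {k : Type u} [Field k] {A : Type u} [Ring A] [Algebra k A] [Algebra.IsCentral k A]
    [IsSimpleRing A] {n : ℕ} (hn : 0 < n) (hA : Module.finrank k A = n * n) (K : Type u) [Field K] [Algebra k K]
    [IsAlgClosed K] : Nonempty (K ⊗[k] A ≃ₐ[K] Matrix (Fin n) (Fin n) K) := by
  have : Module.Finite k A := Module.finite_of_finrank_pos (by rw [hA]; exact Nat.mul_pos hn hn)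
  obtain ⟨m, hm, ⟨φ⟩⟩ := Groth.Agent.CurvesA.SepSplit.splits_of_isSepClosed k K A
  have h := φ.toLinearEquiv.finrank_eq
  rw [Module.finrank_baseChange, hA, Module.finrank_matrix, Module.finrank_self, Fintype.card_fin, mul_one] at h
  obtain rfl : n = m := Nat.mul_self_inj.1 h
  exact ⟨φ⟩

section

variable {k : Type u} [Field k] {A : Type u} [Ring A] [Algebra k A] {m : ℕ} {X : Scheme.{u}}
  [X.Over (Spec (CommRingCat.of k))] [IsProper (X ↘ Spec (CommRingCat.of k))]
  (S : BrSev.SBStr k A ((m + 1) * (m + 1) - (m + 1)) (X ↘ Spec (CommRingCat.of k)))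
  {M : X.Modules} {ι : Type} [Fintype ι] (b : Module.Basis ι k A) {e' : ι → Sec M ⊤} (he : IsLocBasis e')
  (K : Type u) [Field K] [Algebra k K] [IsAlgClosed K]
  (e : BrSev.Splitting (X ↘ Spec (CommRingCat.of k)) K m)

theorem exists_isTwPow (hA : Module.finrank k A = (m + 1) * (m + 1))
    (φ : K ⊗[k] A ≃ₐ[K] Matrix (Fin (m + 1)) (Fin (m + 1)) K) : ∃ ε : ℤ, (ε = 1 ∨ ε = -1) ∧
      BrSev.IsTwPow e ε (m + 1) (I S b he) := by
  let o2 : (BrSev.bc (X ↘ Spec (CommRingCat.of k)) K).Over (Spec (CommRingCat.of K)) :=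
    ⟨BrSev.bcTo (X ↘ Spec (CommRingCat.of k)) K⟩
  obtain ⟨L, hL, ⟨i⟩⟩ := exists_line S b he (K := K) (BrSev.proj (X ↘ Spec (CommRingCat.of k)) K)
    (IsPullback.of_hasPullback _ _) (Nat.succ_pos m) hA φ
  obtain ⟨d, ⟨j⟩⟩ := Groth.Agent.S1697.result K m ((Scheme.Modules.pullback e.iso.inv).obj L)
    (Groth.Agent.Fdesc.LocGen.isInvertible_pullback _ hL)
  have j' : L ≅ e.twist d := (Groth.Agent.ASBun.K791.QMap.forthBack e L).symm ≪≫
    (Scheme.Modules.pullback e.iso.hom).mapIso j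
  have i' : (Scheme.Modules.pullback (BrSev.proj (X ↘ Spec (CommRingCat.of k)) K)).obj (I S b he) ≅
    BrSev.pow (e.twist d) (m + 1) := i ≪≫ powMap j' (m + 1)
  rcases Nat.eq_zero_or_pos m with hm | hm
  · subst hm
    obtain ⟨t⟩ := twist_zero_iso K d 1
    exact ⟨1, Or.inl rfl, ⟨i' ≪≫ powMap ((Scheme.Modules.pullback e.iso.hom).mapIso t) _⟩⟩
  refine ⟨d, ?_, ⟨i'⟩⟩
  obtain ⟨H, hH, ⟨a⟩⟩ := TautPn.exists_H m K φ S b he
  let h : CohB1.ProjSpace m K ⟶ BrSev.bc (X ↘ Spec (CommRingCat.of k)) K :=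
    pullback.lift H (CohB1.ProjSpace.toSpec m K) hH
  have hh : h ≫ BrSev.proj (X ↘ Spec (CommRingCat.of k)) K = H := pullback.lift_fst _ _ _
  obtain ⟨c, hc⟩ := exists_pull_twist hm (h ≫ e.iso.hom)
  have t1 : (Scheme.Modules.pullback h).obj (e.twist d) ≅ Twist.twistProjSpace m K (d * c) :=
    (Scheme.Modules.pullbackComp h e.iso.hom).app _ ≪≫ (hc d).some
  have t2 : BrSev.pow (Twist.twistProjSpace m K (-1)) (m + 1) ≅ BrSev.pow (Twist.twistProjSpace m K (d * c)) (m + 1) :=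
    a.symm ≪≫ (Scheme.Modules.pullbackCongr hh.symm).app _ ≪≫
      ((Scheme.Modules.pullbackComp h (BrSev.proj (X ↘ Spec (CommRingCat.of k)) K)).app _).symm ≪≫
      (Scheme.Modules.pullback h).mapIso i' ≪≫ pullPow h _ _ ≪≫ powMap t1 _
  have : IsProper (CohB1.ProjSpace m K ↘ Spec (CommRingCat.of K)) :=
    Groth.Agent.Dix.ProjProper.isProper_toSpec m K
  have t3 := iso_of_pow_iso K (isInvertible_twist m K _) (isInvertible_twist m K _) (Nat.succ_pos m) t2
  have t4 : -1 = d * c := (Groth.Agent.S10960.result K m hm _ (isInvertible_twist m K (-1))).unique ⟨Iso.refl _⟩ t3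
  have t5 : IsUnit d := by
    rw [Int.isUnit_iff]
    have : d * (-c) = 1 := by rw [mul_neg, ← t4, neg_neg]
    exact Int.isUnit_iff.1 (IsUnit.of_mul_eq_one _ this)
  exact Int.isUnit_iff.1 t5

end

/-- **The tautological module.** -/
theorem exists_taut {k : Type u} [Field k] {A : Type u} [Ring A] [Algebra k A] [Algebra.IsCentral k A]
    [IsSimpleRing A] {n : ℕ} (hn : 0 < n) (hA : Module.finrank k A = n * n) {X : Scheme.{u}}
    (f : X ⟶ Spec (CommRingCat.of k)) [hf : IsProper f] (hX : BrSev.IsSBOf k A (n * n - n) f)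
    (K : Type u) [Field K] [Algebra k K] [IsAlgClosed K] (e : BrSev.Splitting f K (n - 1)) :
    letI : X.Over (Spec (CommRingCat.of k)) := ⟨f⟩
    ∃ (I : X.Modules) (ε : ℤ), (ε = 1 ∨ ε = -1) ∧ FlatMod.IsFinLocFree I ∧ BrSev.IsTwPow e ε n I ∧
      Nonempty (A ≃ₐ[k] End I) := by
  let o : X.Over (Spec (CommRingCat.of k)) := ⟨f⟩
  obtain ⟨φ⟩ := exists_splits hn hA K
  obtain ⟨m, rfl⟩ : ∃ m, n = m + 1 := ⟨n - 1, by omega⟩
  obtain ⟨S⟩ := hX
  have : Module.Finite k A := Module.finite_of_finrank_pos (by rw [hA]; exact Nat.mul_pos hn hn)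
  have hf' : IsProper (X ↘ Spec (CommRingCat.of k)) := hf
  have hc : CompactSpace X := QuasiCompact.compactSpace_of_compactSpace f
  let b := Module.finBasisOfFinrankEq k A hA
  have he := free_isLocBasis X ((m + 1) * (m + 1))
  obtain ⟨ε, hε, h⟩ := exists_isTwPow (X := X) S b he K e hA φ
  let o2 : (BrSev.bc f K).Over (Spec (CommRingCat.of K)) := ⟨BrSev.bcTo f K⟩
  have h2 : IsProper (BrSev.bc f K ↘ Spec (CommRingCat.of K)) :=
    inferInstanceAs (IsProper (pullback.snd f (Spec.map (CommRingCat.ofHom (algebraMap k K)))))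
  have h3 : IsIntegral (BrSev.bc f K) := by
    have : Nonempty (BrSev.bc f K) := ⟨e.iso.inv (Classical.arbitrary (CohB1.ProjSpace m K))⟩
    exact isIntegral_of_isOpenImmersion e.iso.hom
  exact ⟨I S b he, ε, hε, isFinLocFree S b he, h,
    ⟨AlgEquiv.ofBijective (TautAct.rho S b he) (bijective_rho S b he (K := K) (BrSev.proj f K)
      (IsPullback.of_hasPullback _ _) hn hA φ)⟩⟩

end K792.TautMain3
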