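import Groth.Prelude.Def_BrSev2
import Groth.Agent.Grass.K652.MapSpan
import Mathlib.RingTheory.Spectrum.Prime.FreeLocus
import Mathlib.RingTheory.Localization.Away.Basic

/-!
# Submodules of `R ⊗ A` with projective quotient: base change

* `exists_of_mem_span_away`: clearing denominators in the base change to a localization;
* `exists_retraction`, `projective_sub`, `finite_sub`, `rank_sub`;
* `exists_dual`, `span_bcM_basis`: a basis of `N` gives a basis of every base change.
-/

set_option autoImplicit false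
universe u v
open scoped TensorProduct
open K652.MapSpan

namespace K792.TautMod

variable {k : Type u} [Field k] {A : Type u} [Ring A] [Algebra k A] {R S : Type u} [CommRing R] [CommRing S]
  [Algebra k R] [Algebra k S]

/-- Clearing denominators. -/
theorem exists_of_mem_span_away (f : R →ₐ[k] S) (r : R)
    (hf : ∀ s : S, ∃ (m : ℕ) (a : R), f r ^ m * s = f a)
    (N : Submodule R (R ⊗[k] A)) (x : S ⊗[k] A) (hx : x ∈ Submodule.span S (bcM A f '' (N : Set (R ⊗[k] A)))) :
    ∃ (m : ℕ) (y : R ⊗[k] A), y ∈ N ∧ bcM A f y = f r ^ m • x := by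
  induction hx using Submodule.span_induction with
  | mem x hx =>
    obtain ⟨y, hy, rfl⟩ := hx
    exact ⟨0, y, hy, by rw [pow_zero, one_smul]⟩
  | zero => exact ⟨0, 0, N.zero_mem, by rw [map_zero, smul_zero]⟩
  | add x x' _ _ h h' =>
    obtain ⟨m, y, hy, e⟩ := h
    obtain ⟨m', y', hy', e'⟩ := h'
    refine ⟨m + m', r ^ m' • y + r ^ m • y', N.add_mem (N.smul_mem _ hy) (N.smul_mem _ hy'), ?_⟩
    rw [map_add, bcM_smul, bcM_smul, e, e', smul_add, smul_smul, smul_smul, map_pow, map_pow, ← pow_add, ← pow_add,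
      add_comm m' m]
  | smul s x _ h =>
    obtain ⟨m, y, hy, e⟩ := h
    obtain ⟨m', a, ha⟩ := hf s
    refine ⟨m + m', a • y, N.smul_mem _ hy, ?_⟩
    rw [bcM_smul, e, ← ha, smul_smul, smul_smul, pow_add]
    congr 1
    ring

section proj

variable {c : ℕ} (N : Module.Grassmannian R (R ⊗[k] A) c)

theorem exists_retraction : ∃ ρ : R ⊗[k] A →ₗ[R] N.toSubmodule, ∀ x : N.toSubmodule, ρ x = x := by
  have := N.projective_quotient
  obtain ⟨s, hs⟩ := Module.projective_lifting_property N.toSubmodule.mkQ LinearMap.id (Submodule.mkQ_surjective _)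
  refine ⟨LinearMap.codRestrict _ (LinearMap.id - s.comp N.toSubmodule.mkQ) fun x => ?_, fun x => ?_⟩
  · refine (Submodule.Quotient.mk_eq_zero N.toSubmodule).1 ?_
    rw [← Submodule.mkQ_apply]
    have h := congrArg (fun g => g (N.toSubmodule.mkQ x)) hs
    simp only [LinearMap.comp_apply, LinearMap.id_apply] at h
    simp only [LinearMap.sub_apply, LinearMap.id_apply, LinearMap.comp_apply, map_sub, h, sub_self]
  · apply Subtype.ext
    have h : N.toSubmodule.mkQ (x : R ⊗[k] A) = 0 := (Submodule.Quotient.mk_eq_zero N.toSubmodule).2 x.2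
    rw [LinearMap.codRestrict_apply, LinearMap.sub_apply, LinearMap.comp_apply, h, map_zero, sub_zero,
      LinearMap.id_apply]

theorem projective_sub : Module.Projective R N.toSubmodule := by
  obtain ⟨ρ, hρ⟩ := exists_retraction N
  exact Module.Projective.of_split N.toSubmodule.subtype ρ (LinearMap.ext hρ)

theorem finite_sub [Module.Finite k A] : Module.Finite R N.toSubmodule := by
  obtain ⟨ρ, hρ⟩ := exists_retraction N
  exact Module.Finite.of_surjective ρ fun x => ⟨x, hρ x⟩

theorem rank_sub [Module.Finite k A] (p : PrimeSpectrum R) :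
    Module.rankAtStalk N.toSubmodule p + c = Module.finrank k A := by
  have h1 := projective_sub N
  have h2 := finite_sub N
  have h3 := N.projective_quotient
  have h4 := N.finite_quotient
  obtain ⟨ρ, hρ⟩ := exists_retraction N
  have hR : Nontrivial R := ⟨⟨0, 1, fun h => p.2.ne_top ((Ideal.eq_top_iff_one _).2 (by rw [← h]; exact zero_mem _))⟩⟩
  -- `R ⊗ A ≃ N × (R ⊗ A) / N`
  let e : R ⊗[k] A ≃ₗ[R] N.toSubmodule × ((R ⊗[k] A) ⧸ N.toSubmodule) :=
    LinearEquiv.ofBijective (LinearMap.prod ρ N.toSubmodule.mkQ) (by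
      constructor
      · rw [← LinearMap.ker_eq_bot, LinearMap.ker_eq_bot']
        intro x hx
        rw [LinearMap.prod_apply] at hx
        have h5 : ρ x = 0 := congrArg Prod.fst hx
        have h6 : N.toSubmodule.mkQ x = 0 := congrArg Prod.snd hx
        have h7 : x ∈ N.toSubmodule := (Submodule.Quotient.mk_eq_zero N.toSubmodule).1 h6
        have h8 := hρ ⟨x, h7⟩
        rw [h5] at h8
        exact (congrArg Subtype.val h8).symm
      · rintro ⟨y, z⟩
        obtain ⟨x, rfl⟩ := Submodule.mkQ_surjective _ z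
        refine ⟨x - (ρ x : R ⊗[k] A) + (y : R ⊗[k] A), ?_⟩
        rw [LinearMap.prod_apply]
        refine Prod.ext ?_ ?_
        · change ρ _ = y
          rw [map_add, map_sub, hρ, hρ, sub_self, zero_add]
        · change N.toSubmodule.mkQ _ = N.toSubmodule.mkQ x
          have h9 : ∀ w : N.toSubmodule, N.toSubmodule.mkQ (w : R ⊗[k] A) = 0 := fun w =>
            (Submodule.Quotient.mk_eq_zero N.toSubmodule).2 w.2
          rw [map_add, map_sub, h9, h9, sub_zero, add_zero])
  have h10 := congrFun (Module.rankAtStalk_eq_of_equiv e) p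
  rw [Module.rankAtStalk_prod, Pi.add_apply, N.rankAtStalk_eq, Module.rankAtStalk_eq_finrank_of_free,
    Pi.natCast_apply, Module.finrank_baseChange] at h10
  exact h10.symm

end proj

section basis

variable {c : ℕ} (N : Module.Grassmannian R (R ⊗[k] A) c) {ι : Type*} [DecidableEq ι]
  (b : Module.Basis ι R N.toSubmodule)

/-- The functionals dual to a basis of `N` extend to every base change. -/
theorem exists_dual (f : R →ₐ[k] S) : ∃ μ : ι → (S ⊗[k] A →ₗ[S] S), ∀ i j,
    μ i (bcM A f (b j : R ⊗[k] A)) = if i = j then 1 else 0 := by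
  obtain ⟨ρ, hρ⟩ := exists_retraction N
  let l : ι → (R ⊗[k] A →ₗ[R] R) := fun i => (b.coord i).comp ρ
  let m : ι → (A →ₗ[k] S) := fun i =>
    f.toLinearMap.comp (((l i).restrictScalars k).comp (TensorProduct.mk k R A 1))
  have key : ∀ (i : ι) (x : R ⊗[k] A), (m i).liftBaseChange S (bcM A f x) = f (l i x) := by
    intro i x
    induction x using TensorProduct.induction_on with
    | zero => simp
    | tmul r a =>
      rw [bcM_tmul, LinearMap.liftBaseChange_tmul]
      change f r • f (l i (1 ⊗ₜ[k] a)) = _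
      have h : r ⊗ₜ[k] a = r • ((1 : R) ⊗ₜ[k] a) := by rw [TensorProduct.smul_tmul', smul_eq_mul, mul_one]
      rw [h, map_smul, smul_eq_mul, smul_eq_mul, map_mul]
    | add x y hx hy => rw [map_add, map_add, hx, hy, map_add, map_add]
  refine ⟨fun i => (m i).liftBaseChange S, fun i j => ?_⟩
  rw [key]
  change f (b.coord i (ρ (b j))) = _
  rw [hρ, Module.Basis.coord_apply, Module.Basis.repr_self, Finsupp.single_apply]
  by_cases h : i = j
  · subst h
    simp
  · have h' : ¬ j = i := fun e => h e.symm
    simp [h, h']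

omit [DecidableEq ι] in
/-- A basis of `N` spans every base change. -/
theorem span_bcM_basis (f : R →ₐ[k] S) :
    Submodule.span S (bcM A f '' (N.toSubmodule : Set (R ⊗[k] A))) =
      Submodule.span S (Set.range fun i => bcM A f (b i : R ⊗[k] A)) := by
  apply le_antisymm
  · rw [Submodule.span_le]
    rintro _ ⟨x, hx, rfl⟩
    have h := b.linearCombination_repr ⟨x, hx⟩
    rw [Finsupp.linearCombination_apply, Finsupp.sum] at h
    have h2 : x = ∑ i ∈ (b.repr ⟨x, hx⟩).support, (b.repr ⟨x, hx⟩) i • (b i : R ⊗[k] A) := by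
      have h3 := congrArg (N.toSubmodule.subtype) h
      rw [map_sum] at h3
      exact h3.symm
    rw [h2, map_sum]
    refine Submodule.sum_mem _ fun i _ => ?_
    rw [bcM_smul]
    exact Submodule.smul_mem _ _ (Submodule.subset_span ⟨i, rfl⟩)
  · apply Submodule.span_mono
    rintro _ ⟨i, rfl⟩
    exact ⟨_, (b i).2, rfl⟩

end basis

end K792.TautMod
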