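import Groth.Prelude.Def_BrSev2
import Groth.Agent.ASBun.K792.SecBC
import Groth.Agent.Grass.K652.MapSpan

/-!
# The point of a scheme over `k` given by an affine open, and the left ideal attached to it

`Z` over `Spec k`.  `Γ(Z, V)` is a `k`-algebra (`algΓ`, to be used as a local instance).
* `resA h : Γ(Z, V) →ₐ[k] Γ(Z, W)`, `appA g e : Γ(Z, U) →ₐ[k] Γ(Z', V)`;
* `pt hV H : Pts (X ↘ Spec k) Γ(Z, V)`: the restriction to the affine open `V` of `H : Z ⟶ X` over `k`;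
* `Nid S H hV`: the left ideal of `Γ(Z, V) ⊗ A` attached to it, for `S : SBStr k A c (X ↘ Spec k)`;
  `Nid_app`: compatibility with pull back.
-/

set_option autoImplicit false
universe u
open CategoryTheory CategoryTheory.Limits AlgebraicGeometry Opposite TopologicalSpace
open scoped TensorProduct
open K652.MapSpan K792.SecBC

namespace K792.TautPt

variable {k : Type u} [Field k] {X Z Z' : Scheme.{u}}

/-- `Γ(Z, V)` as a `k`-algebra. -/
noncomputable abbrev algΓ [Z.Over (Spec (CommRingCat.of k))] (V : Z.Opens) : Algebra k Γ(Z, V) := (sc k Z V).toAlgebra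

attribute [local instance] algΓ

section Alg

variable [Z.Over (Spec (CommRingCat.of k))] [Z'.Over (Spec (CommRingCat.of k))]

theorem algebraMap_eq (V : Z.Opens) (c : k) : algebraMap k Γ(Z, V) c = sc k Z V c := rfl

/-- The structure map of a comorphism. -/
theorem appLE_sc' (g : Z' ⟶ Z) (hg : g ≫ (Z ↘ Spec (CommRingCat.of k)) = Z' ↘ Spec (CommRingCat.of k))
    {V : Z.Opens} {V' : Z'.Opens} (e : V' ≤ g ⁻¹ᵁ V) (c : k) : g.appLE V V' e (sc k Z V c) = sc k Z' V' c := by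
  rw [sc_eq_appLE, sc_eq_appLE]
  have h := Scheme.Hom.appLE_comp_appLE g (Z ↘ Spec (CommRingCat.of k)) ⊤ V V' le_top e
  have h2 := congr($h ((Scheme.ΓSpecIso (CommRingCat.of k)).inv c))
  refine h2.trans ?_
  simp only [hg]

/-- The comorphism as a morphism of algebras. -/
noncomputable def appA (g : Z' ⟶ Z) (hg : g ≫ (Z ↘ Spec (CommRingCat.of k)) = Z' ↘ Spec (CommRingCat.of k))
    {V : Z.Opens} {V' : Z'.Opens} (e : V' ≤ g ⁻¹ᵁ V) : Γ(Z, V) →ₐ[k] Γ(Z', V') where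
  toRingHom := (g.appLE V V' e).hom
  commutes' c := appLE_sc' g hg e c

theorem appA_apply (g : Z' ⟶ Z) (hg : g ≫ (Z ↘ Spec (CommRingCat.of k)) = Z' ↘ Spec (CommRingCat.of k))
    {V : Z.Opens} {V' : Z'.Opens} (e : V' ≤ g ⁻¹ᵁ V) (s : Γ(Z, V)) : appA (k := k) g hg e s = g.appLE V V' e s := rfl

/-- Restriction of functions as a morphism of algebras. -/
noncomputable def resA {V W : Z.Opens} (h : W ≤ V) : Γ(Z, V) →ₐ[k] Γ(Z, W) where
  toRingHom := (Z.presheaf.map (homOfLE h).op).hom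
  commutes' c := sc_res k h c

theorem resA_apply {V W : Z.Opens} (h : W ≤ V) (s : Γ(Z, V)) :
    resA (k := k) h s = Z.presheaf.map (homOfLE h).op s := rfl

theorem appA_id {V W : Z.Opens} (h : W ≤ (𝟙 Z : Z ⟶ Z) ⁻¹ᵁ V) (hg) : appA (k := k) (𝟙 Z) hg h = resA (k := k) (V := V) (W := W) h := by
  ext s
  rw [appA_apply, resA_apply]
  have : (𝟙 Z : Z ⟶ Z).appLE V W h = Z.presheaf.map (homOfLE (show W ≤ V from h)).op := by
    rw [Scheme.Hom.appLE, Scheme.Hom.id_app]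
    exact Category.id_comp _
  rw [this]

end Alg

section Pt

variable [Z.Over (Spec (CommRingCat.of k))]

/-- The structure morphism on an affine open. -/
theorem fromSpec_over {V : Z.Opens} (hV : IsAffineOpen V) :
    hV.fromSpec ≫ (Z ↘ Spec (CommRingCat.of k)) = Spec.map (CommRingCat.ofHom (algebraMap k Γ(Z, V))) := by
  have h1 := IsAffineOpen.SpecMap_appLE_fromSpec (Z ↘ Spec (CommRingCat.of k)) (isAffineOpen_top _) hV le_top
  rw [← h1, IsAffineOpen.fromSpec_top, Scheme.isoSpec_Spec_inv, ← Spec.map_comp]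
  rfl

variable [X.Over (Spec (CommRingCat.of k))]

/-- The point given by an affine open. -/
noncomputable def pt (H : Z ⟶ X) (hH : H ≫ (X ↘ Spec (CommRingCat.of k)) = Z ↘ Spec (CommRingCat.of k))
    {V : Z.Opens} (hV : IsAffineOpen V) : BrSev.Pts (X ↘ Spec (CommRingCat.of k)) Γ(Z, V) :=
  ⟨hV.fromSpec ≫ H, by
    rw [Category.assoc, hH]
    exact fromSpec_over hV⟩

variable [Z'.Over (Spec (CommRingCat.of k))]

theorem map_pt (H : Z ⟶ X) (hH : H ≫ (X ↘ Spec (CommRingCat.of k)) = Z ↘ Spec (CommRingCat.of k))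
    (g : Z' ⟶ Z) (hg : g ≫ (Z ↘ Spec (CommRingCat.of k)) = Z' ↘ Spec (CommRingCat.of k))
    (H' : Z' ⟶ X) (hH' : H' ≫ (X ↘ Spec (CommRingCat.of k)) = Z' ↘ Spec (CommRingCat.of k)) (hgH : g ≫ H = H')
    {V : Z.Opens} (hV : IsAffineOpen V) {V' : Z'.Opens} (hV' : IsAffineOpen V') (e : V' ≤ g ⁻¹ᵁ V) :
    BrSev.Pts.map (X ↘ Spec (CommRingCat.of k)) (appA g hg e) (pt H hH hV) = pt H' hH' hV' := by
  apply Subtype.ext
  change Spec.map (g.appLE V V' e) ≫ hV.fromSpec ≫ H = hV'.fromSpec ≫ H'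
  rw [← hgH, ← Category.assoc, IsAffineOpen.SpecMap_appLE_fromSpec, Category.assoc]

variable {A : Type u} [Ring A] [Algebra k A] {c : ℕ} (S : BrSev.SBStr k A c (X ↘ Spec (CommRingCat.of k)))

/-- The left ideal attached to an affine open. -/
noncomputable def Nid (H : Z ⟶ X) (hH : H ≫ (X ↘ Spec (CommRingCat.of k)) = Z ↘ Spec (CommRingCat.of k))
    {V : Z.Opens} (hV : IsAffineOpen V) : BrSev.SBSet k A c Γ(Z, V) := S.bij Γ(Z, V) (pt H hH hV)

theorem Nid_map (H : Z ⟶ X) (hH : H ≫ (X ↘ Spec (CommRingCat.of k)) = Z ↘ Spec (CommRingCat.of k))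
    (g : Z' ⟶ Z) (hg : g ≫ (Z ↘ Spec (CommRingCat.of k)) = Z' ↘ Spec (CommRingCat.of k))
    (H' : Z' ⟶ X) (hH' : H' ≫ (X ↘ Spec (CommRingCat.of k)) = Z' ↘ Spec (CommRingCat.of k)) (hgH : g ≫ H = H')
    {V : Z.Opens} (hV : IsAffineOpen V) {V' : Z'.Opens} (hV' : IsAffineOpen V') (e : V' ≤ g ⁻¹ᵁ V) :
    (Nid S H' hH' hV').1.toSubmodule = (Module.Grassmannian.map (appA g hg e) (Nid S H hH hV).1).toSubmodule := by
  rw [Nid, ← map_pt H hH g hg H' hH' hgH hV hV' e]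
  exact S.natural _ _ _ _

/-- Compatibility with pull back. -/
theorem Nid_app (H : Z ⟶ X) (hH : H ≫ (X ↘ Spec (CommRingCat.of k)) = Z ↘ Spec (CommRingCat.of k))
    (g : Z' ⟶ Z) (hg : g ≫ (Z ↘ Spec (CommRingCat.of k)) = Z' ↘ Spec (CommRingCat.of k))
    (H' : Z' ⟶ X) (hH' : H' ≫ (X ↘ Spec (CommRingCat.of k)) = Z' ↘ Spec (CommRingCat.of k)) (hgH : g ≫ H = H')
    {V : Z.Opens} (hV : IsAffineOpen V) {V' : Z'.Opens} (hV' : IsAffineOpen V') (e : V' ≤ g ⁻¹ᵁ V) :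
    (Nid S H' hH' hV').1.toSubmodule = Submodule.span Γ(Z', V')
      (bcM A (appA g hg e) '' ((Nid S H hH hV).1.toSubmodule : Set (Γ(Z, V) ⊗[k] A))) := by
  rw [Nid_map S H hH g hg H' hH' hgH hV hV' e, map_toSubmodule_eq_span]

/-- Compatibility with restriction. -/
theorem Nid_res (H : Z ⟶ X) (hH : H ≫ (X ↘ Spec (CommRingCat.of k)) = Z ↘ Spec (CommRingCat.of k))
    {V W : Z.Opens} (hV : IsAffineOpen V) (hW : IsAffineOpen W) (e : W ≤ V) :
    (Nid S H hH hW).1.toSubmodule = Submodule.span Γ(Z, W)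
      (bcM A (resA e) '' ((Nid S H hH hV).1.toSubmodule : Set (Γ(Z, V) ⊗[k] A))) := by
  have h := Nid_app S H hH (𝟙 Z) (Category.id_comp _) H hH (Category.id_comp _) hV hW e
  rw [appA_id] at h
  exact h

end Pt

end K792.TautPt
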