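import Groth.Agent.ASBun.K792.TautSub

/-!
# The pull back of the tautological submodule

`H : Z ⟶ X` over `Spec k`.  `jmap : H^* I ⟶ H^* M` is a monomorphism, and over small affine opens `V` its image consists
of the sections `beta x` with `x` in the left ideal `Nid S H hV`.
* `eq_of_range`: two submodules with the same sections over arbitrarily small opens are isomorphic.
-/

set_option autoImplicit false
universe u
open CategoryTheory CategoryTheory.Limits AlgebraicGeometry Opposite TopologicalSpace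
open scoped TensorProduct
open K652.MapSpan K792.SecBC K792.TautPt K792.TautFrame K792.TautSub
open Groth.Agent.Sga67.Sec Groth.Agent.Sga67.LocBasis Groth.Agent.Krr.H490.LocBasisPull
open Groth.Agent.Ega1.SubSheaf (Sub)

namespace K792.TautPull

attribute [local instance] algΓ

section compare

variable {Z : Scheme.{u}} {E E' M : Z.Modules}

/-- Two modules mapping to `M` with the same sections over arbitrarily small opens are isomorphic. -/
theorem exists_iso (u : E ⟶ M) (v : E' ⟶ M)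
    (H : ∀ z : Z, ∃ U : Z.Opens, z ∈ U ∧ ∀ W : Z.Opens, W ≤ U → IsAffineOpen W → Function.Injective (appS u W) ∧
      Function.Injective (appS v W) ∧ ∀ s : Sec M W, (∃ t, appS u W t = s) ↔ ∃ t, appS v W t = s) :
    ∃ i : E ≅ E', i.hom ≫ v = u := by
  have small : ∀ (z : Z) (U : Z.Opens), z ∈ U → ∃ W : Z.Opens, W ≤ U ∧ z ∈ W ∧ Function.Injective (appS u W) ∧
      Function.Injective (appS v W) ∧ ∀ s : Sec M W, (∃ t, appS u W t = s) ↔ ∃ t, appS v W t = s := by
    intro z U hz
    obtain ⟨U', hz', h⟩ := H z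
    obtain ⟨W, hW, hzW, hWU⟩ := exists_isAffineOpen_mem_and_subset (x := z) (U := U ⊓ U') ⟨hz, hz'⟩
    have hWU' : W ≤ U ⊓ U' := hWU
    obtain ⟨h1, h2, h3⟩ := h W (hWU'.trans inf_le_right) hW
    exact ⟨W, hWU'.trans inf_le_left, hzW, h1, h2, h3⟩
  have mu : Mono u := mono_of_locally_injective u fun z U hz => by
    obtain ⟨W, hWU, hzW, h1, -, -⟩ := small z U hz
    exact ⟨W, hWU, hzW, fun s hs => h1 (by rw [hs, map_zero])⟩
  have mv : Mono v := mono_of_locally_injective v fun z U hz => by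
    obtain ⟨W, hWU, hzW, -, h1, -⟩ := small z U hz
    exact ⟨W, hWU, hzW, fun s hs => h1 (by rw [hs, map_zero])⟩
  have aux : ∀ (E₁ E₂ : Z.Modules) (a : E₁ ⟶ M) (b : E₂ ⟶ M) [Mono b],
      (∀ (z : Z) (U : Z.Opens), z ∈ U → ∃ W : Z.Opens, W ≤ U ∧ z ∈ W ∧ Function.Injective (appS b W) ∧
        ∀ s : Sec M W, (∃ t, appS a W t = s) → ∃ t, appS b W t = s) →
      ∀ (U : Z.Opens) (s : Sec E₁ U), ∃ t : Sec E₂ U, appS b U t = appS a U s := by
    intro E₁ E₂ a b _ h U s
    choose W hWU hzW _ hW using fun z : U => h z.1 U z.2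
    choose t ht using fun z : U => hW z (res M (hWU z) (appS a U s)) ⟨res E₁ (hWU z) s, appS_res a (hWU z) s⟩
    obtain ⟨y, hy⟩ := Groth.Agent.Ega1.SubSheaf.exists_glue E₂ (U := U) W hWU
      (fun x hx => ⟨⟨x, hx⟩, hzW ⟨x, hx⟩⟩) t (fun i j => by
        apply injective_of_mono b (W i ⊓ W j)
        refine (appS_res b (inf_le_left : W i ⊓ W j ≤ W i) (t i)).trans
          (Eq.trans ?_ (appS_res b (inf_le_right : W i ⊓ W j ≤ W j) (t j)).symm)
        rw [ht, ht, res_res, res_res])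
    refine ⟨y, ?_⟩
    apply eq_of_locally M
    intro x hx
    refine ⟨W ⟨x, hx⟩, hWU ⟨x, hx⟩, hzW ⟨x, hx⟩, ?_⟩
    rw [← ht ⟨x, hx⟩, ← appS_res]
    exact congrArg (appS b (W ⟨x, hx⟩)) (hy ⟨x, hx⟩)
  exact Groth.Agent.Ega1.SubSheaf.exists_iso u v
    (aux E E' u v fun z U hz => by
      obtain ⟨W, a, b, -, c, d⟩ := small z U hz
      exact ⟨W, a, b, c, fun s => (d s).1⟩)
    (aux E' E v u fun z U hz => by
      obtain ⟨W, a, b, c, -, d⟩ := small z U hz
      exact ⟨W, a, b, c, fun s => (d s).2⟩)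

end compare

theorem psec_eq {X Z : Scheme.{u}} (g : Z ⟶ X) (M : X.Modules) {U : X.Opens} {V : Z.Opens}
    (e : V ≤ g ⁻¹ᵁ U) (s : Sec M U) : psec g M e s = res _ e (ps g M U s) := by
  rw [ps_eq]
  rfl

/-- Naturality of the pull back of sections. -/
theorem map_psec {X Z : Scheme.{u}} (g : Z ⟶ X) {M N : X.Modules} (φ : M ⟶ N) {U : X.Opens} {V : Z.Opens}
    (e : V ≤ g ⁻¹ᵁ U) (s : Sec M U) :
    appS ((Scheme.Modules.pullback g).map φ) V (psec g M e s) = psec g N e (appS φ U s) := by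
  rw [psec_eq, psec_eq, appS_res]
  exact congrArg _ (map_ps g φ U s)

section pull

variable {k : Type u} [Field k] {A : Type u} [Ring A] [Algebra k A] {X Z : Scheme.{u}}
  [X.Over (Spec (CommRingCat.of k))] [Z.Over (Spec (CommRingCat.of k))] {c : ℕ}
  (S : BrSev.SBStr k A c (X ↘ Spec (CommRingCat.of k)))
  {M : X.Modules} {ι : Type} [Fintype ι] (b : Module.Basis ι k A) {e : ι → Sec M ⊤} (he : IsLocBasis e)
  (H : Z ⟶ X) (hH : H ≫ (X ↘ Spec (CommRingCat.of k)) = Z ↘ Spec (CommRingCat.of k))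

/-- The map from the pull back of the tautological module to the pull back of the ambient module. -/
noncomputable def jmap : (Scheme.Modules.pullback H).obj (I S b he) ⟶ (Scheme.Modules.pullback H).obj M :=
  (Scheme.Modules.pullback H).map (nsub S b he).ι

/-- Over small affine opens. -/
theorem jmap_small (U : X.affineOpens) {m : ℕ} {β : Fin m → Sec (I S b he) U.1} (hβ : IsLocBasis β)
    {V : Z.Opens} (hV : IsAffineOpen V) (hVU : V ≤ H ⁻¹ᵁ U.1) :
    Function.Injective (appS (jmap S b he H) V) ∧ ∀ s, (∃ t, appS (jmap S b he H) V t = s) ↔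
      ∃ x ∈ (Nid S H hH hV).1.toSubmodule, beta b (pull_basis he H) V x = s := by
  -- the basis of the ideal
  let B : Module.Basis (Fin m) Γ(X, U.1) (NX S U).1.toSubmodule := (hβ.basis le_rfl).map (secEquiv S b he U).symm
  have hB : ∀ i, secEquiv S b he U (B i) = β i := by
    intro i
    simp only [B, Module.Basis.map_apply, IsLocBasis.basis_apply, res_self, LinearEquiv.apply_symm_apply]
  have hp := isLocBasis_psec H (I S b he) hVU hβ
  -- values
  have hval : ∀ i, appS (jmap S b he H) V (psec H (I S b he) hVU (β i)) =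
      beta b (pull_basis he H) V (bcM A (appA H hH hVU) (B i : Γ(X, U.1) ⊗[k] A)) := by
    intro i
    rw [jmap, map_psec, ← hB i, ι_secEquiv, psec_beta b he H hH]
  have hcomb : ∀ a : Fin m → Γ(Z, V), appS (jmap S b he H) V (comb (fun i => psec H (I S b he) hVU (β i)) le_rfl a) =
      beta b (pull_basis he H) V (∑ i, a i • bcM A (appA H hH hVU) (B i : Γ(X, U.1) ⊗[k] A)) := by
    intro a
    rw [comb_apply, map_sum, map_sum]
    refine Finset.sum_congr rfl fun i _ => ?_
    rw [map_smul, map_smul, res_self, hval]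
  obtain ⟨μ, hμ⟩ := TautMod.exists_dual (NX S U).1 B (appA H hH hVU)
  have hinj : ∀ a : Fin m → Γ(Z, V), ∑ i, a i • bcM A (appA H hH hVU) (B i : Γ(X, U.1) ⊗[k] A) = 0 → a = 0 := by
    intro a ha
    ext i
    have h := congrArg (μ i) ha
    rw [map_sum, map_zero] at h
    simp only [map_smul, hμ, smul_eq_mul, mul_ite, mul_one, mul_zero, Finset.sum_ite_eq, Finset.mem_univ,
      if_true] at h
    exact h
  refine ⟨?_, fun s => ⟨?_, ?_⟩⟩
  · intro s t hst
    obtain ⟨a, rfl⟩ := (hp V le_rfl).2 s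
    obtain ⟨a', rfl⟩ := (hp V le_rfl).2 t
    rw [hcomb, hcomb] at hst
    have h1 := (beta b (pull_basis he H) V).injective hst
    have h2 : a - a' = 0 := hinj (a - a') (by
      simp only [Pi.sub_apply, sub_smul, Finset.sum_sub_distrib]
      rw [h1, sub_self])
    rw [sub_eq_zero.1 h2]
  · rintro ⟨t, rfl⟩
    obtain ⟨a, rfl⟩ := (hp V le_rfl).2 t
    refine ⟨_, ?_, (hcomb a).symm⟩
    rw [Nid_app S (𝟙 X) (Category.id_comp _) H hH H hH (Category.comp_id _) U.2 hV hVU]
    refine Submodule.sum_mem _ fun i _ => Submodule.smul_mem _ _ (Submodule.subset_span ⟨_, (B i).2, rfl⟩)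
  · rintro ⟨x, hx, rfl⟩
    rw [Nid_app S (𝟙 X) (Category.id_comp _) H hH H hH (Category.comp_id _) U.2 hV hVU,
      TautMod.span_bcM_basis (NX S U).1 B] at hx
    obtain ⟨a, ha⟩ := (Submodule.mem_span_range_iff_exists_fun _).1 hx
    refine ⟨comb (fun i => psec H (I S b he) hVU (β i)) le_rfl a, ?_⟩
    rw [hcomb, ha]

/-- Small neighbourhoods. -/
theorem exists_small (z : Z) : ∃ U : Z.Opens, z ∈ U ∧ ∀ V : Z.Opens, V ≤ U → ∀ (hV : IsAffineOpen V),
    Function.Injective (appS (jmap S b he H) V) ∧ ∀ s, (∃ t, appS (jmap S b he H) V t = s) ↔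
      ∃ x ∈ (Nid S H hH hV).1.toSubmodule, beta b (pull_basis he H) V x = s := by
  obtain ⟨W, hW, β, hβ⟩ := Groth.Agent.Krr.H495.Rank.exists_isLocBasis (isFinLocFree S b he) (H z)
  obtain ⟨U, hU, hzU, hUW⟩ := exists_isAffineOpen_mem_and_subset (x := H z) (U := W) hW
  refine ⟨H ⁻¹ᵁ U, hzU, fun V hVU hV => ?_⟩
  exact jmap_small S b he H hH ⟨U, hU⟩ (hβ.restrict (show U ≤ W from hUW)) hV hVU

end pull

end K792.TautPull
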