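import Groth.Agent.ASBun.K792.TautAlg
import Groth.Agent.ASBun.K792.TautGlue
import Groth.Agent.ASBun.K792.TautPull
import Groth.Agent.ASBun.K792.TautSplit
import Groth.Agent.Picfga.LineHom
import Groth.Agent.Vancyc.H678.ProjChart

/-!
# The morphism to a Severi-Brauer scheme given by homogeneous coordinates

`Z` over `K`, covered by affine opens `D i` with functions `a i q` on `D i` (`a i i = 1`,
`a i q = a i j * a j q`); `φ : K ⊗ A ≃ M_n(K)`.
* `exists_H`: the morphism `H : Z ⟶ X` over `k` given by the left ideals of the matrices with all rows multiples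
  of `a i`;
* `exists_pull_iso`: if `Q` has generators `u i` on `D i` with `u i = a i j • u j`, then the pull back of the
  tautological module is isomorphic to `Q ^ n`.
-/

set_option autoImplicit false
universe u
open CategoryTheory CategoryTheory.Limits AlgebraicGeometry Opposite TopologicalSpace
open scoped TensorProduct
open K652.MapSpan K792.SecBC K792.TautPt K792.TautFrame K792.TautSub K792.TautAlg K792.EndPow
open Groth.Agent.Sga67.Sec Groth.Agent.Sga67.LocBasis Groth.Agent.Krr.H490.LocBasisPull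

namespace K792.TautRow

attribute [local instance] algΓ

section tower

variable {k K : Type u} [Field k] [Field K] [Algebra k K] {Z : Scheme.{u}} [Z.Over (Spec (CommRingCat.of K))]
  [Z.Over (Spec (CommRingCat.of k))]

/-- The two structures are compatible. -/
theorem tower (hZ : (Z ↘ Spec (CommRingCat.of K)) ≫ Spec.map (CommRingCat.ofHom (algebraMap k K)) =
    Z ↘ Spec (CommRingCat.of k)) (V : Z.Opens) : IsScalarTower k K Γ(Z, V) := by
  apply IsScalarTower.of_algebraMap_eq
  intro c
  rw [algebraMap_eq, algebraMap_eq, sc_eq_appLE, sc_eq_appLE]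
  have h := Scheme.Hom.appLE_comp_appLE (Z ↘ Spec (CommRingCat.of K))
    (Spec.map (CommRingCat.ofHom (algebraMap k K))) ⊤ ⊤ V le_top le_top
  have h2 := congr($h ((Scheme.ΓSpecIso (CommRingCat.of k)).inv c))
  have h3 : (Spec.map (CommRingCat.ofHom (algebraMap k K))).appLE ⊤ ⊤ le_top
      ((Scheme.ΓSpecIso (CommRingCat.of k)).inv c) = (Scheme.ΓSpecIso (CommRingCat.of K)).inv (algebraMap k K c) := by
    have h4 := congr($(Scheme.ΓSpecIso_inv_naturality (CommRingCat.ofHom (algebraMap k K))) c)
    have h5 : (Spec.map (CommRingCat.ofHom (algebraMap k K))).appLE ⊤ ⊤ le_top =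
        (Spec.map (CommRingCat.ofHom (algebraMap k K))).appTop := Scheme.Hom.appLE_eq_app _
    rw [h5]
    exact h4.symm
  simp only [hZ] at h2
  refine h2.symm.trans ?_
  rw [CommRingCat.comp_apply, h3]

end tower

variable {k K : Type u} [Field k] [Field K] [Algebra k K] {Z X : Scheme.{u}} [Z.Over (Spec (CommRingCat.of K))]
  [Z.Over (Spec (CommRingCat.of k))] [X.Over (Spec (CommRingCat.of k))]
  [∀ V : Z.Opens, IsScalarTower k K Γ(Z, V)]

omit [Algebra k K] in
theorem resA_alg {V W : Z.Opens} (h : W ≤ V) (c : K) :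
    resA (k := k) h (algebraMap K Γ(Z, V) c) = algebraMap K Γ(Z, W) c := sc_res K h c

variable {A : Type u} [Ring A] [Algebra k A] {n : ℕ} (φ : K ⊗[k] A ≃ₐ[K] Matrix (Fin n) (Fin n) K)
  (S : BrSev.SBStr k A (n * n - n) (X ↘ Spec (CommRingCat.of k)))
  {D : Fin n → Z.Opens} (hD : ∀ i, IsAffineOpen (D i)) (hcov : ∀ z : Z, ∃ i, z ∈ D i)
  (hDD : ∀ i j, IsAffineOpen (D i ⊓ D j))
  (a : ∀ i, Fin n → Γ(Z, D i)) (ha : ∀ i, a i i = 1)
  (hac : ∀ i j q, resA (k := k) (inf_le_left : D i ⊓ D j ≤ D i) (a i q) =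
    resA (k := k) (inf_le_left : D i ⊓ D j ≤ D i) (a i j) * resA (k := k) (inf_le_right : D i ⊓ D j ≤ D j) (a j q))

include hD hcov hDD hac in
/-- **The morphism given by coordinates.** -/
theorem exists_H : ∃ (H : Z ⟶ X) (hH : H ≫ (X ↘ Spec (CommRingCat.of k)) = Z ↘ Spec (CommRingCat.of k)),
    ∀ (i : Fin n) (V : Z.Opens) (hV : IsAffineOpen V) (e : V ≤ D i),
      (Nid S H hH hV).1.toSubmodule =
        (rowIdeal φ (fun q => resA (k := k) e (a i q)) i (by rw [ha, map_one])).1.toSubmodule := by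
  obtain ⟨H, hH, h⟩ := TautGlue.exists_glue S (fun i : ULift.{u} (Fin n) => D i.down) (fun i => hD i.down)
    (fun z => (hcov z).elim fun i hi => ⟨⟨i⟩, hi⟩) (fun i j => hDD i.down j.down)
    (fun i => rowIdeal φ (a i.down) i.down (ha i.down))
    (fun i j => rowIdeal φ (fun q => resA (k := k) (inf_le_left : D i.down ⊓ D j.down ≤ D i.down) (a i.down q)) i.down
      (by rw [ha, map_one]))
    (fun i j => (rowIdeal_map φ (resA (k := k) inf_le_left) (resA_alg _) (a i.down) i.down (ha i.down)).symm)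
    (fun i j => by
      rw [rowIdeal_map φ (resA (k := k) inf_le_right) (resA_alg _) (a j.down) j.down (ha j.down)]
      exact rowIdeal_eq φ _ _ _ _ _ _ _ (hac i.down j.down))
  refine ⟨H, hH, fun i V hV e => ?_⟩
  rw [Nid_res S H hH (hD i) hV e, h ⟨i⟩, ← rowIdeal_map φ (resA (k := k) e) (resA_alg _) (a i) i (ha i),
    map_toSubmodule_eq_span]

section line

variable {M : X.Modules} {ι : Type} [Fintype ι] (b : Module.Basis ι k A) {e : ι → Sec M ⊤} (he : IsLocBasis e)
  (H : Z ⟶ X) {Q : Z.Modules} (u : ∀ i, Sec Q (D i))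
  (hu : ∀ i, Groth.Agent.Fdesc.LocGen.IsGen (M := Q) (U := D i) (u i))
  (huu : ∀ i j, res Q (inf_le_left : D i ⊓ D j ≤ D i) (u i) =
    resA (k := k) (inf_le_left : D i ⊓ D j ≤ D i) (a i j) • res Q (inf_le_right : D i ⊓ D j ≤ D j) (u j))

/-- The sections given by the rows. -/
noncomputable def nsec (i p : Fin n) : Sec ((Scheme.Modules.pullback H).obj M) (D i) :=
  beta b (pull_basis he H) (D i) (row φ (a i) p)

omit [X.Over (Spec (CommRingCat.of k))] in
theorem res_nsec (i p : Fin n) {V : Z.Opens} (h : V ≤ D i) : res _ h (nsec φ a b he H i p) =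
    beta b (pull_basis he H) V (row φ (fun q => resA (k := k) h (a i q)) p) := by
  rw [nsec, res_beta, bcM_row φ (resA (k := k) h) (resA_alg _)]

omit [Z.Over (Spec (CommRingCat.of K))] [Z.Over (Spec (CommRingCat.of k))] [X.Over (Spec (CommRingCat.of k))]
  [∀ V : Z.Opens, IsScalarTower k K Γ(Z, V)] in
theorem row_smul {R : Type u} [CommRing R] [Algebra k R] [Algebra K R] [IsScalarTower k K R] (c : R)
    (x y : Fin n → R) (h : ∀ q, x q = c * y q) (p : Fin n) : row φ x p = c • row φ y p := by
  rw [row, row, Finset.smul_sum]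
  refine Finset.sum_congr rfl fun q _ => ?_
  rw [h, mul_smul]

omit [X.Over (Spec (CommRingCat.of k))] in
include hcov hac hu huu in
/-- The morphism of the `p`-th row. -/
theorem exists_alpha (p : Fin n) : ∃ α : Q ⟶ (Scheme.Modules.pullback H).obj M,
    ∀ i, appS α (D i) (u i) = nsec φ a b he H i p := by
  obtain ⟨α, hα⟩ := Groth.Agent.Picfga.LineHom.exists_hom (L := Q) (N := (Scheme.Modules.pullback H).obj M)
    (U := D) (e := u) (n := fun i => nsec φ a b he H i p)
    (top_unique fun z _ => by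
      obtain ⟨i, hi⟩ := hcov z
      exact Opens.mem_iSup.2 ⟨i, hi⟩) hu (by
    intro i j V hi hj c hc
    have h1 := congrArg (res Q (le_inf hi hj)) (huu i j)
    rw [res_res, res_smul, res_res] at h1
    have h2 : c = resO Z (le_inf hi hj) (resA (k := k) (inf_le_left : D i ⊓ D j ≤ D i) (a i j)) :=
      Groth.Agent.Picfga.LineHom.smul_inj (hu j) hj (hc.symm.trans h1)
    have h3 : ∀ q, resA (k := k) hi (a i q) = c * resA (k := k) hj (a j q) := by
      intro q
      have h4 := congrArg (resO Z (le_inf hi hj)) (hac i j q)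
      rw [map_mul, ← h2] at h4
      have h5 : resO Z (le_inf hi hj) (resA (k := k) (inf_le_left : D i ⊓ D j ≤ D i) (a i q)) =
        resA (k := k) hi (a i q) := resO_resO _ _ _
      have h6 : resO Z (le_inf hi hj) (resA (k := k) (inf_le_right : D i ⊓ D j ≤ D j) (a j q)) =
        resA (k := k) hj (a j q) := resO_resO _ _ _
      rw [← h5, ← h6, h4]
    refine (res_nsec φ a b he H i p hi).trans (Eq.trans ?_
      (congrArg (fun t => c • t) (res_nsec φ a b he H j p hj)).symm)
    rw [row_smul φ c _ _ h3 p, map_smul])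
  exact ⟨α, hα⟩

include hcov hac ha hu huu in
/-- **The pull back of the tautological module.** -/
theorem exists_pull_iso (hH : H ≫ (X ↘ Spec (CommRingCat.of k)) = Z ↘ Spec (CommRingCat.of k))
    (hN : ∀ (i : Fin n) (V : Z.Opens) (hV : IsAffineOpen V) (e : V ≤ D i),
      (Nid S H hH hV).1.toSubmodule =
        (rowIdeal φ (fun q => resA (k := k) e (a i q)) i (by rw [ha, map_one])).1.toSubmodule)
    {P : Z.Modules} (DP : Dec P (fun _ : Fin n => Q)) :
    Nonempty ((Scheme.Modules.pullback H).obj (I S b he) ≅ P) := by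
  choose α hα using exists_alpha φ hcov a hac b he H u hu huu
  let α' : P ⟶ (Scheme.Modules.pullback H).obj M := ∑ p, DP.π p ≫ α p
  have hα' : ∀ p, DP.ι p ≫ α' = α p := by
    intro p
    rw [Preadditive.comp_sum, Finset.sum_eq_single p]
    · rw [← Category.assoc, DP.ι_π_self, Category.id_comp]
    · intro q _ hq
      rw [← Category.assoc, DP.ι_π_ne p q hq.symm, zero_comp]
    · intro h
      exact absurd (Finset.mem_univ p) h
  obtain ⟨i, -⟩ := TautPull.exists_iso (TautPull.jmap S b he H) α' (by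
    intro z
    obtain ⟨U, hzU, hU⟩ := TautPull.exists_small S b he H hH z
    obtain ⟨i, hi⟩ := hcov z
    refine ⟨U ⊓ D i, ⟨hzU, hi⟩, fun V hV hVa => ?_⟩
    obtain ⟨h1, h2⟩ := hU V (hV.trans inf_le_left) hVa
    have hVi : V ≤ D i := hV.trans inf_le_right
    have hb := TautSplit.isLocBasis_dec DP (Groth.Agent.Vancyc.H678.ProjChart.isLocBasis_of_isGen (hu i))
    have hval : ∀ t : Fin n × Fin 1 → Γ(Z, V), appS α' V
        (comb (fun p : Fin n × Fin 1 => appS (DP.ι p.1) (D i) (u i)) hVi t) =
          beta b (pull_basis he H) V (∑ p, t (p, 0) • row φ (fun q => resA (k := k) hVi (a i q)) p) := by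
      intro t
      rw [comb_apply, map_sum, map_sum, Fintype.sum_prod_type]
      refine Finset.sum_congr rfl fun p _ => ?_
      rw [Fintype.sum_unique, map_smul, map_smul, ← appS_res, ← appS_comp, hα', appS_res, hα,
        res_nsec φ a b he H i p hVi]
      rfl
    have hai : (fun q => resA (k := k) hVi (a i q)) i = 1 := by
      simp only [ha, map_one]
    refine ⟨h1, fun s t hst => ?_, fun s => (h2 s).trans ⟨?_, ?_⟩⟩
    · obtain ⟨s, rfl⟩ := (hb V hVi).2 s
      obtain ⟨t, rfl⟩ := (hb V hVi).2 t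
      rw [hval, hval] at hst
      have h3 := (beta b (pull_basis he H) V).injective hst
      have h4 : (fun p => s (p, 0) - t (p, 0)) = 0 := row_smul_eq_zero φ _ i hai _ (by
        simp only [sub_smul, Finset.sum_sub_distrib]
        rw [h3, sub_self])
      congr 1
      ext ⟨p, o⟩
      obtain rfl : o = 0 := Subsingleton.elim _ _
      exact sub_eq_zero.1 (congrFun h4 p)
    · rintro ⟨x, hx, rfl⟩
      rw [hN i V hVa hVi] at hx
      refine ⟨comb (fun p : Fin n × Fin 1 => appS (DP.ι p.1) (D i) (u i)) hVi fun p => Phi φ _ x p.1 i, ?_⟩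
      rw [hval]
      congr 1
      exact (eq_sum_row φ _ i hai x hx).symm
    · rintro ⟨t, rfl⟩
      obtain ⟨t, rfl⟩ := (hb V hVi).2 t
      refine ⟨_, ?_, (hval t).symm⟩
      rw [hN i V hVa hVi]
      exact Submodule.sum_mem _ fun p _ => Submodule.smul_mem _ _ (row_mem φ _ i hai p))
  exact ⟨i⟩

end line

end K792.TautRow
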