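import Groth.Agent.ASBun.K792.TautFrame
import Groth.Agent.ASBun.K792.TautMod
import Groth.Agent.QCohCat.K658.Gabber
import Groth.Agent.Ega4dA.FrameQC
import Groth.Agent.Dcoh.PushFLF304
import Groth.Agent.Krr.H495.Rank

/-!
# The tautological submodule on a scheme with a family of left ideals

`S : SBStr k A c (X ↘ Spec k)`, `M` an `O_X`-module with global basis `e` indexed by a basis `b` of `A`.
* `nsub S b he : Sub M`: the subsheaf whose sections over affine opens are the left ideals `Nid`;
* `mem_nsub`: the sections over affine opens; `isQCoh`, `isFinLocFree`, `rk_eq`.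
-/

set_option autoImplicit false
universe u
open CategoryTheory CategoryTheory.Limits AlgebraicGeometry Opposite TopologicalSpace
open scoped TensorProduct
open K652.MapSpan K792.SecBC K792.TautPt K792.TautFrame
open Groth.Agent.Sga67.Sec Groth.Agent.Sga67.LocBasis Groth.Agent.Krr.H490.LocBasisPull
open Groth.Agent.Ega1.SubSheaf (Sub)

namespace K792.TautSub

attribute [local instance] algΓ

variable {k : Type u} [Field k] {A : Type u} [Ring A] [Algebra k A] {X : Scheme.{u}}
  [X.Over (Spec (CommRingCat.of k))] {c : ℕ} (S : BrSev.SBStr k A c (X ↘ Spec (CommRingCat.of k)))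
  {M : X.Modules} {ι : Type} [Fintype ι] (b : Module.Basis ι k A) {e : ι → Sec M ⊤} (he : IsLocBasis e)

omit [Field k] [Ring A] [Algebra k A] [X.Over (Spec (CommRingCat.of k))] in
include he in
theorem isFinLocFree_amb : FlatMod.IsFinLocFree M :=
  isFinLocFree_of_exists fun _ => ⟨⊤, ι, inferInstance, e, trivial, he⟩

omit [Field k] [Ring A] [Algebra k A] [X.Over (Spec (CommRingCat.of k))] in
include he in
theorem loc_amb (W : X.affineOpens) : Groth.Agent.Ega1.LocMod.Loc M W.1 := by
  have : M.IsQuasicoherent := Groth.Agent.Ega4dA.FrameQC.isQCoh_of_isFinLocFree (isFinLocFree_amb he)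
  exact Groth.Agent.Ega1.LocMod.loc_of_isQuasicoherent M W.2

/-- The left ideal of an affine open. -/
noncomputable abbrev NX (U : X.affineOpens) : BrSev.SBSet k A c Γ(X, U.1) :=
  Nid S (𝟙 X) (Category.id_comp _) U.2

theorem NX_res {U V : X.affineOpens} (h : V.1 ≤ U.1) : (NX S V).1.toSubmodule =
    Submodule.span Γ(X, V.1) (bcM A (resA h) '' ((NX S U).1.toSubmodule : Set (Γ(X, U.1) ⊗[k] A))) :=
  Nid_res S (𝟙 X) (Category.id_comp _) U.2 V.2 h

/-- The compatible family of submodules over affine opens. -/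
noncomputable def affSub : K658.Gabber.AffSub M where
  obj U := (NX S U).1.toSubmodule.map (beta b he U.1).toLinearMap
  map_mem {U V} h s hs := by
    obtain ⟨x, hx, rfl⟩ := hs
    refine ⟨bcM A (resA h) x, ?_, ?_⟩
    · rw [NX_res S h]
      exact Submodule.subset_span ⟨x, hx, rfl⟩
    · exact (res_beta b he h x).symm
  lift U f s hs := by
    obtain ⟨x, hx, rfl⟩ := hs
    have hx' : x ∈ Submodule.span Γ(X, X.basicOpen f) (bcM A (resA (X.basicOpen_le f)) ''
        ((NX S U).1.toSubmodule : Set (Γ(X, U.1) ⊗[k] A))) :=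
      (NX_res S (U := U) (V := X.affineBasicOpen f) (X.basicOpen_le f)).le hx
    obtain ⟨m, y, hy, e⟩ := TautMod.exists_of_mem_span_away (resA (X.basicOpen_le f)) f (by
      intro s
      have := U.2.isLocalization_basicOpen f
      obtain ⟨⟨a, ⟨_, m, rfl⟩⟩, ha⟩ := IsLocalization.surj (Submonoid.powers f) s
      refine ⟨m, a, ?_⟩
      rw [mul_comm]
      refine Eq.trans ?_ ha
      congr 1
      rw [map_pow]
      rfl) _ x hx'
    refine ⟨m, beta b he U.1 y, ⟨y, hy, rfl⟩, ?_⟩
    refine (res_beta b he (X.basicOpen_le f) y).trans ?_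
    rw [e, map_smul]
    rfl

/-- The tautological subsheaf. -/
noncomputable def nsub : Sub M := (affSub S b he).toSub (loc_amb he)

theorem mem_nsub (U : X.affineOpens) (x : Γ(X, U.1) ⊗[k] A) :
    (beta b he U.1 x : Sec M U.1) ∈ (nsub S b he).obj U.1 ↔ x ∈ (NX S U).1.toSubmodule := by
  refine ((affSub S b he).mem_toSub (loc_amb he) U _).trans ?_
  constructor
  · rintro ⟨y, hy, h⟩
    rwa [← (beta b he U.1).injective h]
  · intro h
    exact ⟨x, h, rfl⟩

/-- The tautological module. -/
noncomputable abbrev I : X.Modules := (nsub S b he).toModules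

theorem isQCoh : Coh.IsQCoh (I S b he) :=
  (affSub S b he).isQuasicoherent_toSub (loc_amb he)

/-- The section of the tautological module given by an element of the ideal. -/
noncomputable def toSec (U : X.affineOpens) (x : (NX S U).1.toSubmodule) : Sec (I S b he) U.1 :=
  (nsub S b he).sec (beta b he U.1 x.1) ((mem_nsub S b he U x.1).2 x.2)

theorem ι_toSec (U : X.affineOpens) (x : (NX S U).1.toSubmodule) :
    appS (nsub S b he).ι U.1 (toSec S b he U x) = beta b he U.1 x.1 := rfl

theorem appS_ι_injective (U : X.Opens) : Function.Injective (appS (nsub S b he).ι U) :=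
  (nsub S b he).ι_app_injective U

theorem exists_toSec (U : X.affineOpens) (s : Sec (I S b he) U.1) : ∃ x, toSec S b he U x = s := by
  obtain ⟨x, hx⟩ := (beta b he U.1).surjective (appS (nsub S b he).ι U.1 s)
  have hm : x ∈ (NX S U).1.toSubmodule := by
    rw [← mem_nsub S b he, hx]
    exact (nsub S b he).ι_app_mem s
  refine ⟨⟨x, hm⟩, appS_ι_injective S b he U.1 ?_⟩
  rw [ι_toSec]
  exact hx

/-- The section map, as a linear map. -/
noncomputable def toSecL (U : X.affineOpens) : (NX S U).1.toSubmodule →ₗ[Γ(X, U.1)] Sec (I S b he) U.1 where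
  toFun := toSec S b he U
  map_add' x y := by
    apply appS_ι_injective S b he U.1
    rw [map_add, ι_toSec, ι_toSec, ι_toSec, ← map_add]
    rfl
  map_smul' r x := by
    apply appS_ι_injective S b he U.1
    rw [map_smul, ι_toSec, ι_toSec, RingHom.id_apply, ← map_smul]
    rfl

theorem toSecL_bijective (U : X.affineOpens) : Function.Bijective (toSecL S b he U) := by
  refine ⟨fun x y h => ?_, exists_toSec S b he U⟩
  apply Subtype.ext
  apply (beta b he U.1).injective
  rw [← ι_toSec, ← ι_toSec]
  exact congrArg _ h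

/-- Sections of the tautological module over an affine open. -/
noncomputable def secEquiv (U : X.affineOpens) : (NX S U).1.toSubmodule ≃ₗ[Γ(X, U.1)] Sec (I S b he) U.1 :=
  LinearEquiv.ofBijective (toSecL S b he U) (toSecL_bijective S b he U)

theorem ι_secEquiv (U : X.affineOpens) (x : (NX S U).1.toSubmodule) :
    appS (nsub S b he).ι U.1 (secEquiv S b he U x) = beta b he U.1 x.1 := rfl

include b in
theorem finite_A : Module.Finite k A := Module.Finite.of_basis b

theorem isFinLocFree : FlatMod.IsFinLocFree (I S b he) := by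
  refine Groth.Agent.Dcoh.PushFLF304.isFinLocFree_of_sections (isQCoh S b he) (fun _ => True) (fun x => ?_)
    fun V _ hV => ?_
  · obtain ⟨V, hV, hx, -⟩ := exists_isAffineOpen_mem_and_subset (x := x) (U := ⊤) trivial
    exact ⟨V, trivial, hV, hx⟩
  · have := finite_A b
    have h1 := TautMod.finite_sub (NX S ⟨V, hV⟩).1
    have h2 := TautMod.projective_sub (NX S ⟨V, hV⟩).1
    exact ⟨Module.Finite.equiv (secEquiv S b he ⟨V, hV⟩), Module.Projective.of_equiv (secEquiv S b he ⟨V, hV⟩)⟩

theorem rk_eq (x : X) : Groth.Agent.Krr.H495.Rank.rk (I S b he) x + c = Module.finrank k A := by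
  obtain ⟨U, hx, β, hβ⟩ := Groth.Agent.Krr.H495.Rank.exists_isLocBasis (isFinLocFree S b he) x
  obtain ⟨V, hV, hxV, hVU⟩ := exists_isAffineOpen_mem_and_subset (x := x) (U := U) hx
  have := finite_A b
  have : Nonempty V := ⟨⟨x, hxV⟩⟩
  have : Nontrivial Γ(X, V) := inferInstance
  obtain ⟨p⟩ : Nonempty (PrimeSpectrum Γ(X, V)) := inferInstance
  have h1 := TautMod.rank_sub (NX S ⟨V, hV⟩).1 p
  have h2 := congrFun (Module.rankAtStalk_eq_of_equiv (secEquiv S b he ⟨V, hV⟩)) p
  have h3 : Module.Free Γ(X, V) (Sec (I S b he) V) := Module.Free.of_basis (hβ.basis hVU)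
  have h4 : Module.finrank Γ(X, V) (Sec (I S b he) V) = Groth.Agent.Krr.H495.Rank.rk (I S b he) x := by
    rw [Module.finrank_eq_card_basis (hβ.basis hVU), Fintype.card_fin]
  rw [← h1, h2, Module.rankAtStalk_eq_finrank_of_free]
  exact congrArg (· + c) h4.symm

end K792.TautSub
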