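import Groth.Agent.ASBun.K792.EndTens
import Groth.Agent.ASBun.K792.TautMain3
import Groth.Agent.ASBun.K790.Isotyp

/-!
# The index of a tensor power as a multiplicity

* `indec_twist`: `O_e(j)` is indecomposable;
* `exists_pow_iso`: a nonzero coherent module of type `O(j)^s` is `V ^ t` for the indecomposable module `V` of type `O(j)`;
* `isIndex_of_end`: if `T` has type `O(j)^s` and `B ≃ End T`, then the index of `B` is the rank of `V`.
* `isIndex_tpow`.
-/

set_option autoImplicit false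
universe u
open CategoryTheory CategoryTheory.Limits AlgebraicGeometry
open scoped TensorProduct

namespace K792.TwIndex

open Groth.Agent Groth.Agent.ASBun.K791.Tens K792.EndPow K792.EndTens

attribute [local instance] Groth.Agent.CurvesC.LinMod.linearModules

variable {k : Type u} [Field k] {X : Scheme.{u}} {f : X ⟶ Spec (CommRingCat.of k)} [hf : IsProper f]
  {K : Type u} [Field K] [Algebra k K] [IsAlgClosed K] {m : ℕ} (e : BrSev.Splitting f K m)

omit hf [IsAlgClosed K] in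
include e in
theorem isIntegral_bc : IsIntegral (BrSev.bc f K) := by
  have : Nonempty (BrSev.bc f K) := ⟨e.iso.inv (Classical.arbitrary (CohB1.ProjSpace m K))⟩
  exact isIntegral_of_isOpenImmersion e.iso.hom

include e in
theorem localEnd_line {L : (BrSev.bc f K).Modules} (hL : PicF.IsInvertible L) : IsLocalRing (End L) := by
  let o2 : (BrSev.bc f K).Over (Spec (CommRingCat.of K)) := ⟨BrSev.bcTo f K⟩
  have h2 : IsProper (BrSev.bc f K ↘ Spec (CommRingCat.of K)) :=
    inferInstanceAs (IsProper (pullback.snd f (Spec.map (CommRingCat.ofHom (algebraMap k K)))))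
  have h3 := isIntegral_bc e
  exact TautMain2.localEnd K hL

include e in
theorem indec_line {L : (BrSev.bc f K).Modules} (hL : PicF.IsInvertible L) : K790.KS.Indec L :=
  K790.KS.indec_of_localEnd (localEnd_line e hL)

theorem not_isZero_of_isTwPow {j : ℤ} {r : ℕ} (hr : 0 < r) {W : X.Modules} (hW : Coh.IsCoh W)
    (hWt : BrSev.IsTwPow e j r W) : ¬ IsZero W := by
  let o1 : X.Over (Spec (CommRingCat.of k)) := ⟨f⟩
  intro h
  have h1 := finrank_end e hW hWt
  have h2 : Subsingleton (End W) := ⟨fun a b => h.eq_of_src _ _⟩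
  have h3 : Module.finrank k (End W) = 0 := Module.finrank_zero_of_subsingleton
  rw [h3] at h1
  have := Nat.mul_pos hr hr
  omega

/-- A module of type `O(j)^s` is a power of the indecomposable module of type `O(j)`. -/
theorem exists_pow_iso {j : ℤ} {r s : ℕ} {V T : X.Modules} (hV : Coh.IsCoh V) (hVi : K790.KS.Indec V)
    (hVt : BrSev.IsTwPow e j r V) (hs : 0 < s) (hT : Coh.IsCoh T) (hTt : BrSev.IsTwPow e j s T) :
    ∃ t : ℕ, 0 < t ∧ Nonempty (T ≅ BrSev.pow V t) := by
  have hT0 := not_isZero_of_isTwPow e hs hT hTt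
  obtain ⟨φ⟩ := hTt
  obtain ⟨ψ⟩ := hVt
  have hL := ASBun.K791.Dual.isInvertible_twist e j
  obtain ⟨G, t, hG, ⟨g⟩, ⟨i, q, hiq⟩, ⟨s', ⟨g'⟩⟩⟩ := K790.Isotyp.exists_iso_pow k f K T hT hT0 (e.twist j)
    (K790.Isotyp.isCoh_of_isInvertible hL) (indec_line e hL) s φ
  obtain ⟨w⟩ := K790.BC.nonempty_iso_of_isotypical k f K G V (K790.BC.isCoh_of_retract hT i q hiq) hV hG hVi
    (e.twist j) s' r g' ψ
  refine ⟨t, ?_, ⟨g ≪≫ powMap w t⟩⟩
  rcases Nat.eq_zero_or_pos t with h | h
  · exfalso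
    subst h
    apply hT0
    refine IsZero.of_iso ?_ g
    rw [IsZero.iff_id_eq_zero]
    exact Sigma.hom_ext _ _ (fun i => i.elim0)
  · exact h

/-- The index of an algebra acting as endomorphisms of a module of type `O(j)^s`. -/
theorem isIndex_of_end {j : ℤ} {r s : ℕ} {V T : X.Modules} (hr : 0 < r) (hV : FlatMod.IsFinLocFree V)
    (hVi : K790.KS.Indec V) (hVt : BrSev.IsTwPow e j r V) (hs : 0 < s) (hT : Coh.IsCoh T)
    (hTt : BrSev.IsTwPow e j s T) (B : Type u) [Ring B] [Algebra k B] :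
    letI : X.Over (Spec (CommRingCat.of k)) := ⟨f⟩
    ∀ (_ : B ≃ₐ[k] End T), CSAGal.IsIndex k B r := by
  let o1 : X.Over (Spec (CommRingCat.of k)) := ⟨f⟩
  intro φ
  have hVc := PerfA.CohSerre.isCoh_of_isFinLocFree hV
  obtain ⟨t, ht, ⟨w⟩⟩ := exists_pow_iso e hVc hVi hVt hs hT hTt
  have D : Dec T (fun _ : Fin t => V) := Dec.ofCoprodIso w
  have hfr := finrank_end e hVc hVt
  have hnt : Nontrivial (End V) := Module.nontrivial_of_finrank_pos (R := k) (by rw [hfr]; exact Nat.mul_pos hr hr)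
  have hdiv : ∀ a : End V, IsUnit a ∨ a = 0 := by
    intro a
    by_cases ha : a = 0
    · exact Or.inr ha
    · left
      rw [K790.KS.isUnit_end_iff]
      exact ASBun.K791.EndDiv.isIso_of_ne_zero e hr hV hVi hVt a ha
  refine ⟨hr, t, End V, DivisionRing.ofIsUnitOrEqZero hdiv, inferInstance, ht, ?_, ?_⟩
  · rw [sq]
    exact hfr
  · exact ⟨φ.trans (D.endEquiv k)⟩

/-- **The multiplicity is the index.** -/
theorem isIndex_tpow {A : Type u} [Ring A] [Algebra k A] [Algebra.IsCentral k A] [IsSimpleRing A] {n : ℕ}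
    (hn : 0 < n) (hA : Module.finrank k A = n * n) (hX : BrSev.IsSBOf k A (n * n - n) f)
    (e : BrSev.Splitting f K (n - 1)) (W : X.Modules) (hW : FlatMod.IsFinLocFree W)
    (hWi : K790.KS.Indec W) (j : ℤ) (r : ℕ) (hr : 0 < r) (hWt : BrSev.IsTwPow e j r W) :
    CSAGal.IsIndex k (CSAGal.tpow k A j.natAbs) r := by
  let o1 : X.Over (Spec (CommRingCat.of k)) := ⟨f⟩
  obtain ⟨I, ε, hε, hIf, hIt, ⟨φ⟩⟩ := TautMain3.exists_taut hn hA f hX K e
  obtain ⟨V, hVf, hVi, hVt⟩ : ∃ V : X.Modules, FlatMod.IsFinLocFree V ∧ K790.KS.Indec V ∧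
      BrSev.IsTwPow e (j.natAbs * ε) r V := by
    by_cases h : j = j.natAbs * ε
    · rw [← h]
      exact ⟨W, hW, hWi, hWt⟩
    · have h2 : (j.natAbs : ℤ) * ε = -j := by
        rcases hε with rfl | rfl <;> omega
      rw [h2]
      obtain ⟨V, hV, ⟨p⟩⟩ := ASBun.K791.Dual.exists_dual hW
      exact ⟨V, hV, ASBun.K791.Dual.indec_dual hV hWi, ASBun.K791.Dual.dual_isTwPow e hWt⟩
  have hCSA : K441.Br.IsCSA k A := ⟨inferInstance, inferInstance,
    Module.finite_of_finrank_pos (by rw [hA]; exact Nat.mul_pos hn hn)⟩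
  obtain ⟨ψ⟩ := nonempty_end_tp e hn hIf hIt hCSA hA φ j.natAbs
  exact isIndex_of_end e hr hVf hVi hVt (pow_pos hn _)
    (PerfA.CohSerre.isCoh_of_isFinLocFree (isFinLocFree_tp hIf _)) (isTwPow_tp e hIt _) _ ψ

end K792.TwIndex
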